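import Cfsg.Agent.Lib.SD9.Mods
import Cfsg.Agent.S3224

/-! The soluble case (helper27). -/

set_option autoImplicit false
set_option linter.unusedSectionVars false

namespace Cfsg.Lib.SD9

open Subgroup Cfsg.Lib.BG Cfsg.Lib.Transfer
open scoped Cfsg.Lib.Transfer

variable {G : Type*} [Group G] {p q s t u v w x y h f : G} {K P Q T : Subgroup G}

theorem In4.comm (e : In4 u p f) (i : Commute w u) (j : Commute w p) : Commute w f := by
  rcases e with rfl | rfl | rfl | rfl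
  exacts [.one_right w, i, j, i.mul_right j]

theorem in4_iff (uu : u * u = 1) (pp : p * p = 1) (c : Commute u p) : In4 u p f ↔ f ∈ zpowers u ⊔ zpowers p := by
  rw [mem_ext (cent_le_norm _ ((cent_zpowers _).ge (mC.2 c.symm))) (pp ▸ one_mem _)]
  simp only [In4, zp2 uu, ← eq_mul_inv_iff_mul_eq, inv2 pp, one_mul, or_assoc]

theorem In4.mul (e : In4 u p f) (e' : In4 u p w) (uu : u * u = 1) (pp : p * p = 1) (c : Commute u p) : In4 u p (f * w) :=
  (in4_iff uu pp c).2 (mul_mem ((in4_iff uu pp c).1 e) ((in4_iff uu pp c).1 e'))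

theorem In4.sq (e : In4 u p f) (uu : u * u = 1) (pp : p * p = 1) (c : Commute u p) : f * f = 1 := by
  rcases e with rfl | rfl | rfl | rfl
  exacts [mul_one 1, uu, pp, sq_mul uu pp c]

theorem In4.mem (e : In4 u p f) (i : u ∈ K) (j : p ∈ K) : f ∈ K := by
  rcases e with rfl | rfl | rfl | rfl
  exacts [one_mem K, i, j, mul_mem i j]

theorem T3.cn (e : T3 w) (p : G) : T3 (cn p w) := Dvd.dvd.trans e ((MulAut.conj p).orderOf_eq w).symm.dvd

/-- elements `e` with `[p, e] ∈ ⟨s⟩` -/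
def Md (p s : G) (ss : s * s = 1) : Subgroup G where
  carrier := {e | Commute e s ∧ (cn p e = e ∨ cn p e = e * s)}
  one_mem' := ⟨.one_left s, .inl (cn_one p)⟩
  mul_mem' {e f} i j := ⟨i.1.mul_left j.1, by
    rcases i.2 with k | k <;> rcases j.2 with l | l <;> simp [cn_mul, k, l, mul_assoc, sw j.1.symm.eq, j.1.symm.eq, ss]⟩
  inv_mem' {e} i := ⟨i.1.inv_left, i.2.imp (fun k => by rw [cn_inv, k]) fun k => by
    rw [cn_inv, k, mul_inv_rev, inv2 ss, i.1.inv_left.eq]⟩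

variable [Finite G]

theorem one_of_cyc (hG : pResidual 2 G = ⊤) (S : Syl 2 P ⊤) (m : x ∈ P) (e : Nat.card P = orderOf x * 2) (uu : u * u = 1)
    (u1 : u ≠ 1) (vv : v * v = 1) (v1 : v ≠ 1) : IsConj u v := by
  obtain ⟨S', rfl⟩ := Syl.top_iff_sylow.1 S
  have i := rel2 e (Nat.card_zpowers x) (zpowers_le.2 m)
  obtain ⟨p, j⟩ := exists_conj_mem_of_thompson_transfer hG S' i ((sq u).trans uu)
  obtain ⟨q, l⟩ := exists_conj_mem_of_thompson_transfer hG S' i ((sq v).trans vv)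
  have o : ∀ {u : G}, u * u = 1 → u ≠ 1 → ∀ p, Nat.card (zpowers (cn p u)) = 2 := fun {u} uu u1 p =>
    (Nat.card_zpowers _).trans (orderOf_eq_prime ((sq _).trans (cn_sq uu p)) (cn_ne_one u1))
  have := (cyclic_eq_of_card inferInstance (zpowers_le.2 j) (zpowers_le.2 l) ((o uu u1 p).trans (o vv v1 q).symm)).le
    (mem_zpowers _)
  exact (isConj_of (((zp2 (cn_sq vv q)).1 this).resolve_left (cn_ne_one u1))).trans (isConj_cn q v).symm

namespace Hy

variable {a r z b c g k : G} (H : Hy a r z b c g k) (A : CA b c g Q)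
include H A

theorem cv (yb : Commute y b) (yc : Commute y c) (e : E2 y) : ∃ v, In4 b c v ∧ y * v ∈ Q ∧ cn r (y * v) ∈ Q := by
  have k : ∀ {y}, Commute y b → Commute y c → E2 y → y ∈ Q ∨ y * c ∈ Q := fun i j e => A.q _ i e (e.mul (.of_sq H.cc) j)
  have k2 : ∀ {y}, y ∈ Q → Commute y c → cn r y ∈ Q ∨ cn r (y * b) ∈ Q := fun {y} m j => by
    rw [cn_mul, H.rb]
    exact k (H.rc ▸ cn_comm j r) (H.rb ▸ cn_comm (A.cb y m) r) ((E2.of_mem A.pg m).cn r)
  rcases k yb yc e with m | m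
  · exact (k2 m yc).elim (fun i => ⟨1, .inl rfl, by rwa [mul_one], by rwa [mul_one]⟩)
      fun i => ⟨b, .inr (.inl rfl), mul_mem m A.bQ, i⟩
  · refine (k2 m (yc.mul_left (.refl c))).elim (fun i => ⟨c, .inr (.inr (.inl rfl)), m, i⟩)
      fun i => ⟨b * c, .inr (.inr (.inr rfl)), ?_, ?_⟩ <;> rw [← H.cb.eq, ← mul_assoc]
    exacts [mul_mem m A.bQ, i]

theorem a1 (e : ∀ y ∈ Q, cn r y ∈ Q → y = 1) (uu : u * u = 1) (u1 : u ≠ 1) : IsConj b u := by
  have k : ∀ {y}, Commute y b → Commute y c → E2 y → In4 b c y := fun i j l => by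
    obtain ⟨v, m, n, o⟩ := H.cv A i j l
    rwa [eq_inv_of_mul_eq_one_left (e _ n o), inv2 (m.sq H.bb H.cc H.cb.symm)]
  obtain ⟨P, S, le⟩ := Syl.exists_ge H.pab le_top
  have aP := le (mem_sup_left (mem_zpowers a))
  have bP := le (mem_sup_right (mem_zpowers b))
  have rP : r ∈ P := H.aa ▸ mul_mem aP aP
  have zP : z ∈ P := H.rr ▸ mul_mem rP rP
  obtain ⟨t, tP, tt, t1, tc⟩ := exists_inv S.pgroup le_rfl (le_norm P) (ne_bot_of_mem bP H.b1)
  have rt := cn_fix (tc r rP).symm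
  obtain rfl : t = z := by
    rcases k (tc b bP) (tc c (H.bz ▸ mul_mem bP zP)) (.of_sq tt) with rfl | rfl | rfl | rfl
    exacts [absurd rfl t1, absurd (rt.symm.trans H.rb) H.bc_ne, absurd (H.rc.symm.trans rt) H.bc_ne, H.bc]
  have o : ∀ {u} (m : u ∈ P), u * u = 1 → u ≠ 1 → orderOf (⟨u, m⟩ : P) = 2 := fun m i j =>
    orderOf_eq_prime (Subtype.ext ((sq _).trans i)) fun e => j (congrArg Subtype.val e)
  have c4 : Nat.card (𝐂[(⟨b, bP⟩ : P)]) = 4 := by
    rw [← (Inv.k4_sup (o bP H.bb H.b1) (o tP tt t1) (fun e => H.bz_ne (congrArg Subtype.val e))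
      (Subtype.ext H.zb.symm.eq)).card_four]
    refine congrArg (fun K : Subgroup P => Nat.card K) (le_antisymm (fun y m => ?_) (sup_le (zpowers_le.2 (self_mem_cent1 _))
      (zpowers_le.2 (mC.2 (Subtype.ext H.zb.eq)))))
    have yb : Commute (y : G) b := congrArg Subtype.val (mC.1 m)
    have i := mem_sup_left (T := zpowers (⟨t, tP⟩ : P)) (mem_zpowers (⟨b, bP⟩ : P))
    have j := mem_sup_right (S := zpowers (⟨b, bP⟩ : P)) (mem_zpowers (⟨t, tP⟩ : P))
    rcases k yb (H.bz ▸ yb.mul_right (tc y y.2).symm) (.of_mem S.pgroup y.2) with e | e | e | e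
    · exact (Subtype.ext e : y = 1) ▸ one_mem _
    · exact (Subtype.ext e : y = ⟨b, bP⟩) ▸ i
    · exact (Subtype.ext (e.trans H.bz.symm) : y = ⟨b, bP⟩ * ⟨t, tP⟩) ▸ mul_mem i j
    · exact (Subtype.ext (e.trans H.bc) : y = ⟨t, tP⟩) ▸ j
  obtain ⟨x, e⟩ : ∃ x : P, Nat.card P = orderOf x * 2 := by
    rcases Agent.S3224.result S.pgroup _ (o bP H.bb H.b1) c4 with ⟨n, ⟨e⟩⟩ | ⟨n, -, e, x, -, i, -⟩ | e
    · exact ⟨e.symm (.r 1), by rw [e.symm.orderOf_eq, DihedralGroup.orderOf_r_one, Nat.card_congr e.toEquiv,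
        DihedralGroup.nat_card, mul_comm]⟩
    · exact ⟨x, by rw [e, i, pow_succ]⟩
    · exact ⟨_, by rw [e, o tP tt t1]⟩
  exact one_of_cyc H.res S x.2 (e.trans (by rw [Subgroup.orderOf_coe])) H.bb H.b1 uu u1

omit A in
theorem bx_ne (X : XX r b g x) : b ≠ x := fun e => H.bc_ne (by rw [← H.rb, e, X.rx])

theorem syl (pg : IsPGroup 2 T) (QT : Q ≤ T) (cT : c ∈ T) (Tb : ∀ t ∈ T, Commute t b) : Syl 2 T 𝐂[b] :=
  Syl.of_max (fun t m => mC.2 (Tb t m)) pg fun R p l i y m => (A.q y (mC.1 (i m)) (.of_mem p m)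
    (.of_mem p (mul_mem m (l cT)))).elim (fun e => QT e) fun e => (mul_mem_cancel_right cT).1 (QT e)

theorem ext (KQ : K ≤ Q) (cK : c ∈ 𝐍(K)) (n : ¬ Q ≤ K)
    (h1 : ∀ s ∈ K, cn c s = s⁻¹ → ∃ p ∈ K, p⁻¹ * cn c p = s ∨ p⁻¹ * cn c p = s * b) :
    ∃ y ∈ Q, y ∉ K ∧ (cn c y = y ∨ cn c y = y * b) := by
  have lt := nil_norm_grow (pgroup_nil A.pg) (lt_of_le_of_ne KQ fun e => n e.ge)
  have cN : zpowers c ≤ 𝐍(Q ⊓ 𝐍(K)) := norm_inf (zpowers_le.2 (A.nrm c H.cb)) (zpowers_le.2 (le_norm _ cK))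
  obtain ⟨w, m, i, -, j⟩ := exists_out (pgroup_sup (pgroup_of_le A.pg inf_le_left) (E2.of_sq H.cc).pg cN) lt le_sup_left
    (sup_le_norm_left cN) (sup_le inf_le_right (zpowers_le.2 cK))
  obtain ⟨p, l, e⟩ := h1 _ (j c (mem_sup_right (mem_zpowers c))) (by rw [cn_mul, cn2 H.cc, cn_inv, mul_inv_rev, inv_inv])
  have m' : w * p⁻¹ ∈ Q := mul_mem m.1 (inv_mem (KQ l))
  refine ⟨w * p⁻¹, m', fun f => i ((mul_mem_cancel_right (inv_mem l)).1 f), e.imp (fun e => ?_) fun e => ?_⟩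
  · rw [cn_mul, cn_inv, eq_mul_of_inv_mul_eq e]; group
  · rw [cn_mul, cn_inv, eq_mul_of_inv_mul_eq e, (A.cb _ m').eq, mul_inv_rev, mul_inv_rev, inv2 H.bb, ← mul_assoc, ← mul_assoc,
      (ccn H.cb (A.cb w m.1)).eq]
    group

variable (X : XX r b g x) (xQ : x ∈ Q) (U : ∀ y ∈ Q, cn r y ∈ Q → y = 1 ∨ y = x)
include X xQ U

theorem cE (yb : Commute y b) (yc : Commute y c) (e : E2 y) : y ∈ E3 x b c := by
  obtain ⟨v, m, n, o⟩ := H.cv A yb yc e
  exact (mul_mem_cancel_right (m.mem E3_2 E3_3)).1 ((U _ n o).elim (fun e => e ▸ one_mem _) fun e => e ▸ E3_1)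

theorem qE (m : y ∈ Q) (yc : Commute y c) : In4 x b y := by
  have xQ' : ∀ {t}, x * t ∈ Q → t ∈ Q := (mul_mem_cancel_left xQ).1
  rcases (H.mE X).1 (H.cE A X xQ U (A.cb y m) yc (.of_mem A.pg m)) with e | e | e | e | rfl | rfl | rfl | rfl
  exacts [.inl e, .inr (.inl e), .inr (.inr (.inl e)), .inr (.inr (.inr e)), absurd m A.cQ, absurd (xQ' m) A.cQ,
    absurd m (H.zQ A.toQQ), absurd (xQ' m) (H.zQ A.toQQ)]

theorem a2' (nz : ¬ IsConj b z) : False := by
  have rx := comm_of_cn X.rx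
  have ar : Commute (cn a x) r := cn_fix H.ar ▸ cn_comm rx.symm a
  have ab : Commute (cn a x) b := mul_inv_cancel_left r b ▸ ar.mul_right (H.ab ▸ cn_comm X.xb a)
  have f := cn_fix ar.symm
  have az : Commute (cn a x) z := H.rr ▸ ar.mul_right ar
  refine modA H.res H.aa H.rr H.zz H.bb H.ab X.xx X.xb ?_ H.z1 H.b1 nz
    (fun e => nz (e.trans (isConj_of ((mul_cn _ _ _).trans (H.hbx X))))) (H.Bx X) (H.bx_ne X)
    (fun e => H.bc_ne (by rw [← H.rb, e, cn_mul, X.rx, cn_fix H.rz])) fun S i j l n o o' e =>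
      E3_le l i (H.bz ▸ mul_mem i j) (H.cE A X xQ U o (H.bz ▸ o.mul_right o') e)
  rcases (H.mE X).1 (H.cE A X xQ U ab (H.bz ▸ ab.mul_right az) ((E2.of_sq X.xx).cn a)) with e | e | e | e | e | e | e | e
  · exact absurd e (cn_ne_one X.x1)
  · obtain ⟨p, i, j⟩ := H.pair (H.h3 X) (H.h1 X) X.xx X.x1 (H.xh X)
    have l : Commute (cn p⁻¹ a) b := cn_symm j ▸ cn_comm (comm_of_cn e) _
    have := (t3_norm A.pg H.g3 H.g1 (A.nrm g H.bg.symm) (A.sq _ l (H.a2.cn _))).cn p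
    rw [cn_mul, cn_mul, cn_inv_cn, H.aa, i] at this
    have m : cn ((r * hh r g x) ^ 3) c = x * z := by
      have i1 : cn (r * hh r g x) c = x * z := by rw [mul_cn, H.hc X, cn_mul, X.rx, cn_fix H.rz]
      have i2 : cn (r * hh r g x) (x * z) = c := by rw [mul_cn, H.he X, H.rb]
      rw [pow_three, mul_cn (r * _), mul_cn (r * _), i1, i2, i1]
    have m' : cn ((r * hh r g x) ^ 3) c = c := (H.cube2 this X.xx X.x1 (rx.symm.mul_right (H.xh X))).elim
      (fun e => e.symm ▸ one_cn c) fun e => e.symm ▸ cn_fix (H.xc X)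
    exact absurd (mul_right_cancel (H.bz.trans (m'.symm.trans m))) (H.bx_ne X)
  · rw [e, H.rb] at f; exact absurd f.symm H.bc_ne
  · rw [e, cn_mul, X.rx, H.rb, mul_right_inj] at f; exact absurd f.symm H.bc_ne
  · rw [e, H.rc] at f; exact absurd f H.bc_ne
  · rw [e, cn_mul, X.rx, H.rc, mul_right_inj] at f; exact absurd f H.bc_ne
  · rw [← cn_fix H.az, cn_inj] at e; exact absurd (e ▸ H.Bx X) nz
  · exact e

theorem exp : ∃ p, cn p g = hh r g x ∧ cn p b = x ∧ (cn p x = b ∨ cn p x = b * x) := by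
  obtain ⟨p, i, j⟩ := H.pair (H.h3 X) (H.h1 X) X.xx X.x1 (H.xh X)
  have sb : Commute (cn p⁻¹ (cn g x)) b := cn_symm j ▸ cn_comm (H.xs X).symm _
  have sg : cn (cn p⁻¹ (cn g x)) g = g⁻¹ := by
    have := congrArg (cn p⁻¹) (H.sh X)
    rwa [← cn_cn, cn_inv, cn_symm i] at this
  obtain ⟨γ, m, e⟩ : ∃ γ ∈ zpowers g, cn p⁻¹ (cn g x) = c * γ ∨ cn p⁻¹ (cn g x) * b = c * γ :=
    (H.six (c * cn p⁻¹ (cn g x)) (comm_of_cn (by rw [mul_cn, sg, cn_inv, H.cg, inv_inv])) (H.cb.mul_left sb)).elim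
      (fun e => ⟨_, e, .inl (cancel2 H.cc _).symm⟩) fun e => ⟨_, e, .inr (by rw [mul_assoc, cancel2 H.cc])⟩
  have γ3 := cube_zp H.g3 m
  obtain ⟨n, rfl⟩ := m
  have γg : Commute (g ^ n) g := (Commute.refl g).zpow_left n
  have γb : Commute (g ^ n) b := H.bg.symm.zpow_left n
  have γc : cn (g ^ n) c = c * g ^ n := by
    have : cn c (g ^ n) = (g ^ n)⁻¹ := by rw [cn_zpow, H.cg, inv_zpow]
    have := of_cn (cn_symm this)
    rw [inv2 H.cc] at this
    rw [cn, ← this, mul_assoc, mul_right_inj, ← mul_inv_rev, inv_eq_iff_mul_eq_one, ← γ3, pow_three']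
  have i' : cn (p * g ^ n) g = hh r g x := by rw [mul_cn, cn_fix γg, i]
  have j' : cn (p * g ^ n) b = x := by rw [mul_cn, cn_fix γb, j]
  have l : Commute b (cn (p * g ^ n) c) := by
    rw [mul_cn, γc]
    rcases e with e | e <;> rw [← e]
    · rw [cn_inv_cn]; exact (H.sb X).symm
    · rw [cn_mul, cn_inv_cn, j]; exact (H.sb X).symm.mul_right X.xb.symm
  generalize p * g ^ n = q at i' j' l
  have yb : Commute (cn q⁻¹ b) b := by simpa only [cn_symm j'] using cn_comm X.xb.symm q⁻¹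
  have yQ := A.a4 _ yb (cn_sq H.bb _) (by rw [← cn_symm i', cn_cn, H.hb X]; exact cn_comm H.cb.symm _)
  refine ⟨q, i', j', ?_⟩
  rcases H.qE A X xQ U yQ (by simpa only [inv_cn_cn] using cn_comm l q⁻¹) with e | e | e | e
  · exact absurd e (cn_ne_one H.b1)
  · exact .inl (by rw [← e, cn_inv_cn])
  · exact absurd ((cn_symm e).symm.trans (by rwa [inv_inv])) (H.bx_ne X)
  · have := cn_symm e
    rw [inv_inv, cn_mul, j'] at this
    exact .inr (by rw [eq_mul_inv_of_mul_eq this, inv2 X.xx])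

theorem cEb (yb : Commute y b) (yx : Commute y x) (y1 : Commute y (cn g x)) (e : E2 y) : y ∈ E3 x b (cn g x) := by
  obtain ⟨p, i, j, l⟩ := H.exp A X xQ U
  have wx : Commute (cn p y) x := j ▸ cn_comm yb p
  have k : ∀ {u v}, Commute (cn p y) u → u = v ∨ u = v * x → Commute (cn p y) v := fun i => Or.rec (· ▸ i) fun e => by
    simpa [e] using i.mul_right wx.inv_right
  have l' : cn p (cn g x) = c ∨ cn p (cn g x) = c * x := by
    rw [← cn_cn, i]
    exact l.imp (fun e => by rw [e, H.hb X]) fun e => by rw [e, cn_mul, H.hb X, cn_fix (H.xh X).symm]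
  have m := H.cE A X xQ U (k (cn_comm yx p) l) (k (cn_comm y1 p) l') (e.cn p)
  have n : ∀ {u v}, u ∈ E3 x b (cn g x) → cn p u = v ∨ cn p u = v * x → cn p⁻¹ v ∈ E3 x b (cn g x) := fun {u v} m =>
    Or.rec (fun e => (cn_symm e).symm ▸ m) fun e => (mul_mem_cancel_right E3_2).1 (by
      rw [← cn_symm j, ← cn_mul, cn_symm e, cn_symm j]; exact m)
  exact inv_cn_cn p y ▸ E3_le (K := (E3 x b (cn g x)).comap (MulAut.conj p⁻¹).toMonoidHom) (n E3_2 (.inl j)) (n E3_1 l)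
    (n E3_3 l') m

theorem exy (Bz : IsConj b z) : ∃ y ∈ Q, cn c y = y * b ∧ y * cn g y * cn g (cn g y) = 1 := by
  obtain ⟨y, m, e⟩ : ∃ y ∈ Q, cn c y = y * b := by
    by_contra! n
    have x1Q := cn_mem (A.nrm g H.bg.symm) xQ
    have sE : ∀ {s}, s ∈ E3 x b (cn g x) → s * s = 1 := fun m => sq_closure (S := {x, b, cn g x}) (by
      simp only [Set.mem_insert_iff, Set.mem_singleton_iff, forall_eq_or_imp, forall_eq]
      exact ⟨X.xx, H.bb, cn_sq X.xx g⟩) (by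
      simp only [Set.mem_insert_iff, Set.mem_singleton_iff, forall_eq_or_imp, forall_eq]
      exact ⟨⟨.refl _, X.xb, H.xs X⟩, ⟨X.xb.symm, .refl _, (H.sb X).symm⟩, (H.xs X).symm, H.sb X, .refl _⟩)
      (E3_le (Subgroup.subset_closure (by simp)) (Subgroup.subset_closure (by simp)) (Subgroup.subset_closure (by simp)) m)
    have le : Q ≤ E3 x b (cn g x) := by_contra fun f => by
      obtain ⟨y, m, i, j⟩ := H.ext A (E3_le xQ A.bQ x1Q) (E3_norm ((cn_fix (H.xc X).symm).symm ▸ E3_1) ((cn_fix H.cb).symm ▸ E3_2)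
        (H.cs X ▸ mul_mem (mul_mem E3_3 E3_1) E3_2)) f fun s m e => by
          have k : (cn g x)⁻¹ * cn c (cn g x) = x * b := by rw [H.cs X]; group
          rcases H.qE A X xQ U (E3_le xQ A.bQ x1Q m) (comm_of_cn (e.trans (inv2 (sE m)))).symm with rfl | rfl | rfl | rfl
          · exact ⟨1, one_mem _, .inl (by rw [cn_one, mul_one, inv_one])⟩
          · exact ⟨_, E3_3, .inr k⟩
          · exact ⟨1, one_mem _, .inr (by rw [cn_one, mul_one, inv_one, H.bb])⟩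
          · exact ⟨_, E3_3, .inl k⟩
      exact i ((H.qE A X xQ U m (comm_of_cn (j.resolve_right (n y m))).symm).mem E3_1 E3_2)
    obtain ⟨w, e⟩ := ex_cn Bz
    have ρ : cn w⁻¹ r * cn w⁻¹ r = b := by rw [← cn_mul, H.rr, cn_symm e]
    have cN := A.nrm c H.cb
    obtain ⟨l, i, j⟩ := (H.syl A (pgroup_sup A.pg (E2.of_sq H.cc).pg (zpowers_le.2 cN)) le_sup_left
      (mem_sup_right (mem_zpowers c)) fun t m => mC.1 (sup_le (fun y m => mC.2 (A.cb y m)) (zpowers_le.2 (mC.2 H.cb)) m)).exists_conj_le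
      (H.r2.cn w⁻¹).pg (zpowers_le.2 (mC.2 (ρ ▸ (Commute.refl _).mul_right (.refl _))))
    have ρ' : cn l (cn w⁻¹ r) * cn l (cn w⁻¹ r) = b := by rw [← cn_mul, ρ, cn_fix (mC.1 i)]
    rcases (mem_ext (y := cn l (cn w⁻¹ r)) cN (H.cc ▸ one_mem _)).1 (j (conj_mem_conj.2 (mem_zpowers _))) with m | m
    · exact H.b1 (ρ'.symm.trans (sE (le m)))
    · refine n _ m (mul_left_cancel (a := cn l (cn w⁻¹ r) * c) ?_)
      rw [← mul_assoc _ _ b, sE (le m), one_mul, ← ρ', cn.eq_1 c, inv2 H.cc]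
      simp only [mul_assoc, cancel2 H.cc, H.cc, mul_one]
  refine (H.tau (H.fp A.toQQ) m).elim (fun i => ⟨y, m, e, i⟩) fun i => ⟨y * b, mul_mem m A.bQ, by rw [cn_mul, e, cn_fix H.cb], ?_⟩
  have y1 := ccn H.bg.symm (A.cb y m)
  simp only [cn_mul, cn_fix H.bg.symm, mul_assoc, sw y1.symm.eq, cancel2 H.bb]
  rw [← mul_assoc, ← mul_assoc, i, H.bb]

theorem mb (m : y ∈ Q) (cy : cn c y = y * b) (ty : y * cn g y * cn g (cn g y) = 1) : ∃ v T, MB b c g x y v Q T := by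
  have F := H.fp A.toQQ
  have yb := A.cb y m
  have sb := H.sb X
  have yz : cn y z = c := by
    have : cn y c = b * c := by
      have := of_cn (p := c) (cn_inv c y)
      rw [cn, mul_assoc, this, cy, mul_inv_rev, inv2 H.bb, ← yb.inv_left.eq]; group
    rw [← H.bc, cn_mul, this, cn_fix yb, cancel2 H.bb]
  have i1 : cn y x = x ∨ cn y x = x * b := by
    rcases H.qE A X xQ U (cn_mem (le_norm Q m) xQ) (yz ▸ cn_comm (H.xz X) y) with e | e | e | e
    exacts [absurd e (cn_ne_one X.x1), .inl e, absurd (cn_inj.1 (e.trans (cn_fix yb).symm)).symm (H.bx_ne X), .inr e]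
  have i2 := H.com F m xQ i1
  have i3 : cn y x = x := by
    obtain ⟨ε, εb, e⟩ : ∃ ε, cn c ε = ε ∧ cn y (cn g x) = cn g x * ε ∧ Commute ε x ∧ Commute ε b := i2.elim
      (fun e => ⟨1, cn_one c, by rw [e, mul_one], .one_left x, .one_left b⟩) fun e => ⟨b, cn_fix H.cb, e, X.xb.symm, .refl b⟩
    have := congrArg (cn c) e.1
    rw [← cn_cn, cy, cn_mul c, H.cs X, εb, mul_cn, cn_fix ((sb.mul_left X.xb).mul_left (.refl b)).symm, cn_mul, cn_mul, e.1,
      cn_fix yb, mul_assoc _ b, ← e.2.2.eq, ← mul_assoc, mul_left_inj, mul_assoc, mul_assoc, ← e.2.1.eq] at this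
    exact mul_left_cancel (mul_left_cancel this)
  have i4 : cn y (cn g x) = cn g x * b := i2.resolve_left fun e => by
    have xb := X.xb.mul_left (.refl b)
    have := (E3_le (K := Md c (x * b) (sq_mul X.xx H.bb X.xb)) ⟨(Commute.refl x).mul_right X.xb, .inl (cn_fix (H.xc X).symm)⟩
      ⟨xb.symm, .inl (cn_fix H.cb)⟩ ⟨(H.xs X).symm.mul_right sb, .inr ((H.cs X).trans (mul_assoc _ _ _))⟩
      (H.cEb A X xQ U yb (comm_of_cn i3) (comm_of_cn e) (.of_mem A.pg m))).2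
    rw [cy, mul_eq_left, mul_right_inj] at this
    exact this.elim H.b1 fun e => X.x1 (mul_eq_right.1 e.symm)
  have y1 := ccn H.bg.symm yb
  have y2 := ccn H.bg.symm y1
  have i5 : y * y = b := by
    have k : Commute y (cn g (y * y)) := by
      rw [cn_mul]
      refine comm_of_cn ?_
      rcases H.com F m m (.inl (cn_self y)) with e | e <;> rw [cn_mul, e]
      rw [mul_assoc, sw y1.symm.eq, mul_assoc, H.bb, mul_one]
    have n : ¬ Commute y (cn g x) := fun e => H.b1 (mul_eq_left.1 (i4.symm.trans (cn_fix e)))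
    rcases H.qE A X xQ U (mul_mem m m) (comm_of_cn (by
      rw [cn_mul, cy, mul_assoc, sw yb.symm.eq, mul_assoc, H.bb, mul_one])).symm with e | e | e | e
    · have c1 : cn c (cn g y) = cn g (cn g y) * b := by
        rw [← cn_cn, H.cg, cy, cn_inv3 H.g3, cn_mul, cn_mul, cn_fix H.bg.symm, cn_fix H.bg.symm]
      have c2 : cn c (cn g (cn g y)) = cn g y * b := by rw [← cn_cn, H.cg, c1, cn_mul, inv_cn_cn, cn_fix H.bg.symm.inv_left]
      have c3 := cn_comm (tri_comm e (cn_sq e g) (cn_sq (cn_sq e g) g) (mul_one 1) (.one_left _) ty) g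
      have := congrArg (cn c) ty
      rw [cn_mul, cn_mul, cy, c2, c1, cn_one] at this
      simp only [mul_assoc, sw y1.symm.eq, sw y2.symm.eq, cancel2 H.bb, sw c3.symm.eq] at this
      rw [← mul_assoc, ← mul_assoc, ty, one_mul] at this
      exact absurd this H.b1
    · exact absurd (e ▸ k) n
    · exact e
    · rw [e, cn_mul, cn_fix H.bg.symm] at k
      exact absurd (by simpa using k.mul_right yb.inv_right) n
  obtain ⟨v, P, T, M⟩ := modB H.bb H.cc H.g3 X.xx H.cb H.bg X.xb yb H.cg (H.xc X) X.tau cy i5 (comm_of_cn i3).symm (by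
    have := of_cn i4
    rw [← inv2 (cn_sq X.xx g), cn, inv_inv, mul_assoc, this, yb.eq]; group) ty H.b1
  have le := M.le Q A.bQ xQ m (A.nrm g H.bg.symm)
  obtain rfl : P = Q := le_antisymm le (by_contra fun f => by
    obtain ⟨w, i, j, e | e⟩ := H.ext A le M.cP f M.h1
    · exact j ((H.qE A X xQ U i (comm_of_cn e).symm).mem M.xP M.bP)
    · exact j ((mul_mem_cancel_right M.yP).1 ((H.qE A X xQ U (mul_mem i m) (comm_of_cn (by
        rw [cn_mul, cy, e, mul_assoc, sw yb.symm.eq, mul_assoc, H.bb, mul_one])).symm).mem M.xP M.bP)))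
  exact ⟨v, T, M⟩

theorem a3 (Bz : IsConj b z) (uu : u * u = 1) (u1 : u ≠ 1) : IsConj b u := by
  obtain ⟨y, m, cy, ty⟩ := H.exy A X xQ U Bz
  obtain ⟨v, T, M⟩ := H.mb A X xQ U m cy ty
  have S := H.syl A M.pg M.PT M.cT M.Tb
  have cl : ∀ {L u}, Syl 2 T L → u ∈ L → u * u = 1 → u ≠ 1 → ¬ IsConj b u → ∃ n ∈ L, ∃ l, Commute l b ∧ cn l v = cn n u :=
    fun {L u} S m uu u1 nB => by
      obtain ⟨n, i, j⟩ := S.exists_conj_le (E2.of_sq uu).pg (zpowers_le.2 m)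
      have k : ∀ {w}, IsConj b w → ¬ IsConj w (cn n u) := fun e f => nB ((e.trans f).trans (isConj_cn n u).symm)
      rcases M.cl _ (j (conj_mem_conj.2 (mem_zpowers u))) (cn_sq uu n) with e | e | e | e | e
      exacts [absurd e (cn_ne_one u1), absurd e (k (.refl b)), absurd e (k H.Bc), absurd e (k (H.Bx X)), ⟨n, i, e⟩]
  have Bv : IsConj b v := by_contra fun nB => by
    have vb : Commute v b := A.cb v M.vP
    have key : ∀ {u}, (u * u = 1 ∧ u ≠ 1 ∧ Commute u b ∧ Commute u x ∧ ¬ IsConj b u) → ∃ f, In4 b x f ∧ u = v * f :=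
      fun {u} ⟨uu, u1, ub, ux, nu⟩ => by
        obtain ⟨n, i, l, j, e⟩ := cl S (mC.2 ub) uu u1 nu
        rcases M.X u ((cn_mem_iff (A.nrm n (mC.1 i))).1 (e ▸ cn_mem (A.nrm l j) M.vP)) ux uu with e | e | e | e | e | e | e
        exacts [absurd e u1, absurd (e ▸ IsConj.refl b) nu, absurd ((H.Bx X).trans e) nu, ⟨1, .inl rfl, by rw [e, mul_one]⟩,
          ⟨b, .inr (.inl rfl), e⟩, ⟨x, .inr (.inr (.inl rfl)), e⟩, ⟨_, .inr (.inr (.inr rfl)), by rw [e, X.xb.eq]⟩]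
    obtain ⟨ρ, r1, r2⟩ : ∃ ρ, cn ρ b = x ∧ cn ρ x = b * x := by
      obtain ⟨p, -, j, l | l⟩ := H.exp A X xQ U
      · exact ⟨p * cn g (cn g y), by rw [mul_cn, cn_fix (ccn H.bg.symm (ccn H.bg.symm (A.cb y m))), j],
          by rw [mul_cn, M.yx, cn_mul, l, j]⟩
      · exact ⟨p, j, l⟩
    have r3 : cn ρ (b * x) = b := by rw [cn_mul, r1, r2, ← X.xb.eq, cancel2 X.xx]
    obtain ⟨h3, h1⟩ := H.t3sq (t3_cn (w := ρ) (x := b) (by rw [pow_three, mul_cn, mul_cn, r1, r2, r3])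
      (r1 ▸ (H.bx_ne X).symm))
    have hb : cn (ρ ^ 2) b = b * x := by rw [sq, mul_cn, r1, r2]
    have hx : cn (ρ ^ 2) x = b := by rw [sq, mul_cn, r2, r3]
    generalize ρ ^ 2 = h at h3 h1 hb hx
    have st : ∀ {u}, (u * u = 1 ∧ u ≠ 1 ∧ Commute u b ∧ Commute u x ∧ ¬ IsConj b u) →
        (cn h u * cn h u = 1 ∧ cn h u ≠ 1 ∧ Commute (cn h u) b ∧ Commute (cn h u) x ∧ ¬ IsConj b (cn h u)) :=
      fun {u} ⟨uu, u1, ub, ux, nu⟩ =>
        have i : Commute (cn h u) b := hx ▸ cn_comm ux h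
        ⟨cn_sq uu h, cn_ne_one u1, i, inv_mul_cancel_left b x ▸ i.inv_right.mul_right (hb ▸ cn_comm ub h),
          fun e => nu (e.trans (isConj_cn h u).symm)⟩
    have d1 := st ⟨M.vv, M.v1, vb, M.vx, nB⟩
    obtain ⟨f1, i1, e1⟩ := key d1
    obtain ⟨f2, i2, e2⟩ := key (st d1)
    have c1 := i1.comm vb M.vx
    have c2 := i2.comm vb M.vx
    have i3 := i1.mul i2 H.bb X.xx X.xb.symm
    have e3 : v * (cn h v * cn h (cn h v)) = v * (f1 * f2) := by rw [e2, e1, mul_assoc, sw c1.symm.eq, mul_assoc, cancel2 M.vv]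
    have cj : IsConj v (v * (f1 * f2)) := by
      rcases i3 with e | e | e | e <;> rw [e]
      exacts [(mul_one v).symm ▸ .refl v, M.cj.1, M.cj.2.1, X.xb.eq ▸ M.cj.2.2]
    obtain ⟨l, e⟩ := ex_cn cj
    refine nB ((H.isB (.of3 h3 h1) (e ▸ cn_sq M.vv l) (e ▸ cn_ne_one M.v1) (comm_of_cn ?_).symm).trans cj.symm)
    have : Commute v (cn h v * cn h (cn h v)) := by
      rw [e2, e1]; exact ((Commute.refl v).mul_right c1).mul_right ((Commute.refl v).mul_right c2)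
    rw [← e3, cn_mul, cn_mul, cn3 h3, this.eq, mul_assoc]
  by_contra nB
  obtain ⟨n, -, l, -, e⟩ := cl (S.of_norm_le le_top fun n i =>
    mC.2 (fix_z (M.PT M.bP) H.b1 M.Tb M.zt i.2)) (mem_top u) uu u1 nB
  exact nB ((Bv.trans (isConj_of e)).trans (isConj_cn n u).symm)

omit X xQ U in
theorem caseA (uu : u * u = 1) (u1 : u ≠ 1) : IsConj b u := by
  by_cases e : ∀ y ∈ Q, cn r y ∈ Q → y = 1
  · exact H.a1 A e uu u1
  push Not at e
  obtain ⟨y, m, n, y1⟩ := e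
  obtain ⟨x, xQ, X, U⟩ := H.q1 A.toQQ m n y1
  exact H.a3 A X xQ U (by_contra (H.a2' A X xQ U)) uu u1

end Hy

end Cfsg.Lib.SD9
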