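import Cfsg.Agent.Lib.SD9.CaseA

/-! The case `A₅` (helper27). -/

set_option autoImplicit false
set_option linter.unusedSectionVars false

namespace Cfsg.Lib.SD9

open Subgroup Cfsg.Lib.BG Cfsg.Lib.Transfer
open scoped Cfsg.Lib.Transfer

variable {G : Type*} [Group G] {p q s t u v w x y h f φ : G} {K P Q T : Subgroup G}

theorem cn_of_inv {b : G} (e : cn b s = s⁻¹) : cn s b = s * s * b := by
  have := of_cn (p := b) (x := s⁻¹) (y := s) (by rw [cn_inv, e, inv_inv])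
  rw [cn, mul_assoc, this, mul_assoc]

theorem comm_tau (i : p * q * s = 1) (j : p⁻¹ * q⁻¹ * s⁻¹ = 1) : Commute p q := by
  rw [← mul_inv_rev, mul_inv_eq_one, ← inv_eq_of_mul_eq_one_right i, inv_inj] at j
  exact j.symm

/-- a four-group normalized by an element of order three -/
structure TS (b z f h : G) : Prop where
  h3 : h ^ 3 = 1
  hb : Commute h b
  hz : cn h z = f
  hf : cn h f = z * f
  zf : Commute z f
  nz : ¬ IsConj b z
  cen : ∀ y, Commute y b → Commute y z → Commute y f → In4 z f y ∨ In4 z f (y * b)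

variable [Finite G]

namespace Hy

variable {a r z b c g k : G} (H : Hy a r z b c g k)
include H

section TS

variable (S : TS b z f h)
include S

theorem ff : f * f = 1 := S.hz ▸ cn_sq H.zz h
theorem f1 : f ≠ 1 := S.hz ▸ cn_ne_one H.z1
theorem fb : Commute f b := S.hz ▸ ccn S.hb H.zb
theorem hzf : cn h (z * f) = z := by rw [cn_mul, S.hz, S.hf, ← mul_assoc, ← S.zf.eq, mul_assoc, H.ff S, mul_one]
theorem fz_ne : f ≠ z := fun e => H.z1 (by
  have := S.hf
  rwa [e, S.hz, e, H.zz] at this)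
theorem zf1 : z * f ≠ 1 := S.hf ▸ cn_ne_one (H.f1 S)
theorem nF (e : In4 z f φ) : ¬ IsConj b φ := fun i => by
  rcases e with rfl | rfl | rfl | rfl
  exacts [H.ne_B i rfl, S.nz i, S.nz (i.trans (isConj_of S.hz).symm), S.nz (i.trans (isConj_of (H.hzf S)))]
theorem BF (e : In4 z f φ) : IsConj b (φ * b) := by
  have : IsConj b (z * b) := H.zb.eq ▸ H.bz ▸ H.Bc
  have k : ∀ {u v}, cn h u = v → IsConj b (u * b) → IsConj b (v * b) := fun e i =>
    i.trans (isConj_of (by rw [cn_mul, e, cn_fix S.hb]))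
  rcases e with rfl | rfl | rfl | rfl
  exacts [(one_mul b).symm ▸ .refl b, this, k S.hz this, k S.hf (k S.hz this)]
theorem hF (e : In4 z f φ) : In4 z f (cn h φ) := by
  rcases e with rfl | rfl | rfl | rfl
  exacts [.inl (cn_one h), .inr (.inr (.inl S.hz)), .inr (.inr (.inr S.hf)), .inr (.inl (H.hzf S))]
theorem Fz (i : Commute w z) (j : Commute w f) : Commute (cn h w) z := H.hzf S ▸ cn_comm (i.mul_right j) h
theorem Ff (i : Commute w z) : Commute (cn h w) f := S.hz ▸ cn_comm i h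

theorem tau1 (i : Commute w z) (j : Commute w f) :
    w * cn h w * cn h (cn h w) = 1 ∨ IsConj b (w * cn h w * cn h (cn h w)) := by
  have e1 : cn (w * h) z = f := by rw [mul_cn, S.hz, cn_fix j]
  rw [← cube_mul S.h3]
  exact H.cube' (t3_cn (x := z) (by rw [pow_three, mul_cn (w * h), mul_cn (w * h), e1, mul_cn w h f, S.hf,
    cn_fix (i.mul_right j), mul_cn, H.hzf S, cn_fix i]) (e1 ▸ H.fz_ne S))

theorem ts (ss : s * s = z) (bs : cn b s = s⁻¹) (sf : Commute s f) :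
    (s * cn h s * cn h (cn h s) = 1 ∧ Commute s (cn h s)) ∨ s * b * cn h (s * b) * cn h (cn h (s * b)) = 1 := by
  have sz : Commute s z := ss ▸ (Commute.refl s).mul_right (.refl s)
  have k : ∀ {s}, cn b s = s⁻¹ → cn b (cn h s) = (cn h s)⁻¹ := fun e => by rw [← cn_fix S.hb, cn_cn, e, cn_inv]
  have z1 := H.Fz S sz sf
  have f1 := H.Ff S sz
  have s1 : cn h s * cn h s = f := by rw [← cn_mul, ss, S.hz]
  have tz := (sz.mul_left z1).mul_left (H.Fz S z1 f1)
  have tf := (sf.mul_left f1).mul_left (H.Ff S z1)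
  rcases S.cen _ (comm_of_cn (by
    rw [mul_cn, mul_cn, cn_of_inv (k (k bs)), ← cn_mul, s1, S.hf, cn_mul, cn_fix (z1.mul_right f1), cn_of_inv (k bs), s1,
      mul_assoc, cancel2 (H.ff S), cn_mul, cn_fix sz, cn_of_inv bs, ss, cancel2 H.zz])) tz tf with e | e
  · have := (H.tau1 S sz sf).resolve_right (H.nF S e)
    exact .inl ⟨this, comm_tau this (by rw [← bs, ← k bs, ← k (k bs), ← cn_mul, ← cn_mul, this, cn_one])⟩
  · refine .inr ((H.tau1 S (sz.mul_left H.zb.symm) (sf.mul_left (H.fb S).symm)).resolve_right (H.nF S ?_))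
    convert In4.mul (.inr (.inr (.inl rfl))) e H.zz (H.ff S) S.zf using 1
    have : b * cn h s = f * cn h s * b := by
      rw [of_cn (k bs), inv_eq_of_mul_eq_one_right (b := f * cn h s) (by rw [sw f1.eq, mul_assoc, s1, H.ff S])]
    simp only [cn_mul, cn_fix S.hb, mul_assoc, sw this, cancel2 H.bb, sw sf.eq]

theorem r4_of (uu : s * s = 1) (uz : Commute u z) (uf : Commute u f) (sz : Commute s z) (sf : Commute s f) (us : Commute u s)
    (ub : cn u b = b * z) (sb : cn s b = b * f) : R4 u z f s := by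
  have k : ∀ {w}, In4 u z w → cn w b ≠ b * f := fun e => by
    rcases e with rfl | rfl | rfl | rfl
    · rw [one_cn]; exact fun e => H.f1 S (mul_eq_left.1 e.symm)
    · rw [ub]; exact fun e => H.fz_ne S (mul_left_cancel e).symm
    · rw [cn_fix H.zb]; exact fun e => H.f1 S (mul_eq_left.1 e.symm)
    · rw [mul_cn, cn_fix H.zb, ub]; exact fun e => H.fz_ne S (mul_left_cancel e).symm
  have n : ∀ {w}, Commute w b → w ≠ u := fun i e => H.z1 (mul_eq_left.1 (ub.symm.trans (cn_fix (e ▸ i))))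
  refine ⟨H.zz, H.ff S, uu, uz, uf, us, S.zf, sz.symm, sf.symm, H.z1, n H.zb, fun e => ?_, fun e => k e sb,
    fun e => k e (by rw [mul_cn, sb, cn_fix ((H.fb S).mul_right (.refl f))])⟩
  rcases e with e | e | e | e
  exacts [H.f1 S e, n (H.fb S) e, H.fz_ne S e, n ((H.fb S).mul_left H.zb) (by rw [e, mul_assoc, H.zz, mul_one])]

theorem same (e : s * s = t * t) (e1 : s * s ≠ 1) (bs : cn b s = s⁻¹) (bt : cn b t = t⁻¹) (sz : Commute s z) (sf : Commute s f)
    (tz : Commute t z) (tf : Commute t f) : ∃ φ, In4 z f φ ∧ s = t * φ := by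
  refine ⟨t⁻¹ * s, (S.cen _ (comm_of_cn (by rw [mul_cn, cn_of_inv bs, e, ← cn_of_inv bt, inv_cn_cn]))
    (tz.inv_left.mul_left sz) (tf.inv_left.mul_left sf)).resolve_right fun i => e1 ?_, by simp⟩
  obtain ⟨φ, i, e⟩ : ∃ φ, In4 z f φ ∧ s = t * φ * b := ⟨_, i, by simp [mul_assoc, H.bb]⟩
  rw [e, mul_assoc _ b, ← mul_assoc b, ← mul_assoc b, of_cn bt]
  simp only [mul_assoc, sw (i.comm H.zb.symm (H.fb S).symm).eq, H.bb, mul_one, sw (i.comm tz.inv_left tf.inv_left).symm.eq,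
    i.sq H.zz (H.ff S) S.zf, mul_inv_cancel]

/-- the case `C(b) = 2 × A₅` -/
theorem b0' (Z : CZ b) (iv : ∀ y, Commute y b → E2 y → y * y = 1)
    (cen : ∀ y, Commute y b → Commute y z → In4 z f y ∨ In4 z f (y * b)) : False := by
  have nr : ∀ {u}, Commute r u → ¬ IsConj b u := fun i j => by
    obtain ⟨p, rfl⟩ := ex_cn j
    have := iv (cn p⁻¹ r) (by simpa only [inv_cn_cn] using cn_comm i p⁻¹) (H.r2.cn _)
    rw [← cn_mul, H.rr] at this
    exact cn_ne_one H.z1 this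
  have fb := H.fb S
  have ff := H.ff S
  have F : ∀ {p}, Commute p z → Commute (cn p f) b → cn p f = f ∨ cn p f = z * f := fun {p} i j => by
    rcases cen _ j (cn_fix i ▸ cn_comm S.zf.symm p) with (e | e | e | e) | e
    · exact absurd e (cn_ne_one (H.f1 S))
    · exact absurd (cn_inj.1 (e.trans (cn_fix i).symm)) (H.fz_ne S)
    · exact .inl e
    · exact .inr e
    · have := H.BF S e
      rw [mul_assoc, H.bb, mul_one] at this
      exact absurd (this.trans (isConj_cn p f).symm) (H.nF S (.inr (.inr (.inl rfl))))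
  have rf : Commute r f := comm_of_cn ((F H.rz (H.rc ▸ cn_comm (H.bz ▸ fb.mul_right S.zf.symm) r)).resolve_right fun e =>
    nr (comm_of_cn (by rw [cn_mul, e, H.rb, ← H.bz, ← H.zb.eq, mul_assoc, sw S.zf.symm.eq, mul_assoc, cancel2 H.zz]))
      (H.BF S (.inr (.inr (.inl rfl)))))
  have k : ∀ {s}, cn b s = s⁻¹ → cn b (cn h s) = (cn h s)⁻¹ := fun e => by rw [← cn_fix S.hb, cn_cn, e, cn_inv]
  have rbz := H.rz.mul_left H.zb.symm
  have rbf := rf.mul_left fb.symm
  have rb2 := H.sq_B H.rB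
  have rbb : cn (r * b) b = b * z := by rw [mul_cn, cn_self, H.rb, H.bz]
  obtain ⟨t, rq⟩ := (H.ts S H.rr H.br rf).resolve_right fun e => Z.nB (H.r4_of S (cn_sq rb2 h) rbz rbf (H.Fz S rbz rbf)
    (H.Ff S rbz) (tri_comm rb2 (cn_sq rb2 h) (cn_sq (cn_sq rb2 h) h) (mul_one 1) (.one_left _) e) rbb
    (by have := congrArg (cn h) rbb; rwa [← cn_cn, cn_mul h b, S.hz, cn_fix S.hb] at this)) H.rB
  obtain ⟨q, hr⟩ : ∃ q, cn h r = q := ⟨_, rfl⟩
  have bq := k H.br
  have qz := H.Fz S H.rz rf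
  have qf := H.Ff S H.rz
  have qq : cn h r * cn h r = f := by rw [← cn_mul, H.rr, S.hz]
  rw [hr] at t rq bq qz qf qq
  have hq : cn h q = (r * q)⁻¹ := eq_inv_of_mul_eq_one_right t
  have rt : ∀ {φ}, In4 z f φ → ∃ ω, ω * ω = φ ∧ cn b ω = ω⁻¹ ∧ Commute ω r ∧ Commute ω q := fun e => by
    rcases e with rfl | rfl | rfl | rfl
    · exact ⟨1, mul_one 1, by rw [cn_one, inv_one], .one_left r, .one_left q⟩
    · exact ⟨r, H.rr, H.br, .refl r, rq⟩
    · exact ⟨q, qq, bq, rq.symm, .refl q⟩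
    · exact ⟨r * q, by rw [rq.symm.mul_mul_mul_comm, H.rr, qq], by rw [cn_mul, H.br, bq, ← mul_inv_rev, rq.eq],
        (Commute.refl r).mul_left rq.symm, rq.mul_left (.refl q)⟩
  have ar : ∀ {y}, Commute y r → Commute (cn a y) r := fun i => cn_fix H.ar ▸ cn_comm i a
  have bρ : cn b (cn a q) = (cn a q)⁻¹ := by
    have := congrArg (cn a) bq
    rw [← cn_cn, H.ab, mul_cn, cn_inv] at this
    rw [← cn_symm this, inv_inv, cn_fix (ar rq.symm).inv_left.symm]
  have ρz : Commute (cn a q) z := cn_fix H.az ▸ cn_comm qz a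
  have af : cn a f = f := (F H.az (mul_inv_cancel_left r b ▸ (ar rf.symm).mul_right (H.ab ▸ cn_comm fb a))).resolve_right
    fun e => by
      obtain ⟨ψ, i, j⟩ := H.same S (s := cn a q) (t := cn h q) (by rw [← cn_mul, ← cn_mul, qq, e, S.hf])
        (by rw [← cn_mul, qq]; exact cn_ne_one (H.f1 S)) bρ (k bq) ρz
        (cancel2 H.zz f ▸ ρz.mul_right (e ▸ cn_comm qf a)) (H.Fz S qz qf) (H.Ff S qz)
      have i' := i.mul (.inr (.inr (.inl rfl))) H.zz ff S.zf
      obtain ⟨ω, o1, o2, o3, o4⟩ := rt i'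
      have ωz : Commute ω z := H.rr ▸ o3.mul_right o3
      have ωf : Commute ω f := qq ▸ o4.mul_right o4
      have e1 : cn (h * a) b = q⁻¹ * b := by rw [mul_cn, H.ab, cn_mul, cn_inv, hr, cn_fix S.hb]
      have e2 : cn (h * a) f = z := by rw [mul_cn, e, H.hzf S]
      have e3 : cn (h * a) z = f := by rw [mul_cn, cn_fix H.az, S.hz]
      have e4 : cn a (q⁻¹ * b) = ψ * f * (q⁻¹ * b) := by
        rw [cn_mul, cn_inv, j, hq, H.ab, mul_inv_rev, inv_inv, inv2 (i.sq H.zz ff S.zf), ← qq, rq.eq]; group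
      have e5 : Commute (ω * a) (q⁻¹ * b) := comm_of_cn (by
        rw [mul_cn, e4, cn_mul, cn_mul ω q⁻¹, cn_fix (i'.comm ωz ωf), cn_fix o4.inv_right, cn_of_inv o2, o1,
          ← mul_assoc q⁻¹, (i'.comm qz.inv_left qf.inv_left).eq, mul_assoc _ q⁻¹, cancel2 (i'.sq H.zz ff S.zf)])
      have e6 : Commute (cn h⁻¹ (cn (h * a)⁻¹ (ω * a))) (z * f) := by
        have i1 : Commute (cn (h * a)⁻¹ (ω * a)) b := cn_symm e1 ▸ cn_comm e5 _
        have i2 : Commute (cn (h * a)⁻¹ (ω * a)) f := cn_symm e2 ▸ cn_comm (ωz.mul_left H.az) _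
        rcases cen _ (ccn S.hb.inv_left i1) (cn_symm S.hz ▸ cn_comm i2 _) with l | l
        · exact (l.comm ((Commute.refl z).mul_left S.zf.symm) (S.zf.mul_left (.refl f))).symm
        · simpa using (l.comm ((Commute.refl z).mul_left S.zf.symm) (S.zf.mul_left (.refl f))).symm.mul_left
            (H.zb.mul_left fb).symm.inv_left
      have e7 := cn_fix (cn_comm (cn_comm e6 h) (h * a))
      rw [cn_inv_cn, cn_inv_cn, H.hzf S, e3, mul_cn, e, cn_fix (ωz.mul_right ωf)] at e7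
      exact H.z1 (mul_eq_right.1 e7)
  obtain ⟨φ, iφ, aq⟩ := H.same S (s := cn a q) (t := q) (by rw [← cn_mul, qq, af]) (by rw [← cn_mul, qq, af]; exact H.f1 S)
    bρ bq ρz (af ▸ cn_comm qf a) qz qf
  have af := comm_of_cn af
  have i1 := H.hF S iφ
  have i2 := H.hF S i1
  have dz := H.Fz S H.az af
  have df := H.Ff S H.az
  have hr2 : cn h (r * q)⁻¹ = r := by rw [← hq, ← hr, cn3 S.h3]
  have dr : cn (cn h a) r = r * cn h φ := by
    rw [← hr2, cn_cn, cn_inv, cn_mul, cn_fix H.ar, aq, ← mul_assoc, ← ((iφ.comm H.rz rf).mul_left (iφ.comm qz qf)).symm.eq,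
      mul_inv_rev, inv2 (iφ.sq H.zz ff S.zf), cn_mul]
  have dq : Commute (cn h a) q := hr ▸ cn_comm H.ar h
  have db : cn (cn h a) b = q⁻¹ * b := by rw [← cn_fix S.hb, cn_cn, H.ab, cn_mul, cn_inv, hr]
  have d2r : cn (cn h (cn h a)) r = r * cn h (cn h φ) := by rw [← hr2, ← hq, cn_cn, cn_cn, aq, cn_mul, cn_mul]
  have d2b : cn (cn h (cn h a)) b = r * q * b := by rw [← cn_fix S.hb, cn_cn, db, cn_mul, cn_inv, hq, inv_inv]
  have M : M8 a r z (cn h a) q f b := ⟨Z, H.res, H.aa, H.rr, H.zz, by rw [← cn_mul, H.aa, hr], qq, ff, H.bb, H.ab, db, H.z1,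
    H.f1 S, H.zf1 S, H.b1, H.nF S (.inr (.inr (.inr rfl))), fun K i j l n m o o' =>
      (cen n m (comm2 (iv n m o) H.zz (iv _ (m.mul_left H.zb) o'))).elim (fun e => e.mem j l)
        fun e => (mul_mem_cancel_right i).1 (e.mem j l)⟩
  have act : ∀ {w φ0 φ1 φ2}, Commute w z → Commute w f → In4 z f φ0 → In4 z f φ1 → In4 z f φ2 → cn w r = r * φ0 →
      cn (cn h w) r = r * φ1 → cn (cn h (cn h w)) r = r * φ2 → φ0 * (φ1 * φ2) = 1 → Commute w (cn h w) :=
    fun {w φ0 φ1 φ2} wz wf j0 j1 j2 e0 e1 e2 e => by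
      have key : ∀ {w}, Commute w z → Commute w f → cn w r = r * φ0 → cn (cn h w) r = r * φ1 →
          cn (cn h (cn h w)) r = r * φ2 → w * cn h w * cn h (cn h w) = 1 := fun wz wf e0 e1 e2 =>
        (H.tau1 S wz wf).resolve_right (nr (comm_of_cn (by
          rw [mul_cn, mul_cn, e2, cn_mul, e1, cn_fix (j2.comm (H.Fz S wz wf) (H.Ff S wz)), mul_assoc, cn_mul, e0,
            cn_fix ((j1.comm wz wf).mul_right (j2.comm wz wf)), mul_assoc, e, mul_one])).symm)
      have iv : ∀ {w φ}, Commute w z → Commute w f → In4 z f φ → cn w r = r * φ → cn w⁻¹ r = r * φ := fun wz wf j e =>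
        cn_symm (by rw [cn_mul, e, cn_fix (j.comm wz wf), mul_assoc, j.sq H.zz ff S.zf, mul_one])
      have w1z := H.Fz S wz wf
      have w1f := H.Ff S wz
      have := key wz.inv_left wf.inv_left (iv wz wf j0 e0) (cn_inv h w ▸ iv w1z w1f j1 e1)
        (by rw [cn_inv, cn_inv]; exact iv (H.Fz S w1z w1f) (H.Ff S w1z) j2 e2)
      rw [cn_inv, cn_inv] at this
      exact comm_tau (key wz wf e0 e1 e2) this
  have o : In4 z f 1 := .inl rfl
  have ex : cn h φ * cn h (cn h φ) = 1 ∨ cn h φ * cn h (cn h φ) = z := by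
    obtain ⟨ω, o1, o2, o3, o4⟩ := rt i1
    have ωz : Commute ω z := H.rr ▸ o3.mul_right o3
    have ωf : Commute ω f := qq ▸ o4.mul_right o4
    have e : cn (ω * (a * cn h a * cn h (cn h a))) r = r * (cn h φ * cn h (cn h φ)) := by
      rw [mul_cn, mul_cn, mul_cn, d2r, cn_mul, dr, cn_fix (i2.comm dz df), mul_assoc,
        cn_fix (H.ar.mul_right ((i1.comm H.az af).mul_right (i2.comm H.az af))),
        cn_fix (o3.mul_right ((i1.comm ωz ωf).mul_right (i2.comm ωz ωf)))]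
    refine (S.cen (ω * (a * cn h a * cn h (cn h a))) (comm_of_cn ?_) (ωz.mul_left ((H.az.mul_left dz).mul_left (H.Fz S dz df)))
      (ωf.mul_left ((af.mul_left df).mul_left (H.Ff S dz)))).imp (fun l => ?_) fun l => ?_
    · rw [mul_cn, mul_cn, mul_cn, d2b, cn_mul (cn h a), cn_mul (cn h a), dr, cn_fix dq, db, mul_assoc, mul_inv_cancel_left, cn_mul,
        cn_fix (H.ar.mul_right (i1.comm H.az af)), H.ab, (i1.comm H.rz rf).eq, mul_assoc, mul_inv_cancel_left, cn_mul,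
        cn_fix (i1.comm ωz ωf), cn_of_inv o2, o1, cancel2 (i1.sq H.zz ff S.zf)]
    · exact mul_eq_left.1 (e.symm.trans (cn_fix (l.comm H.rz rf).symm))
    · have := cn_fix (l.comm H.rz rf).symm
      rw [mul_cn, H.br, cn_inv, e, inv_eq_iff_eq_inv, H.ri] at this
      exact mul_left_cancel this
  rcases iφ with rfl | rfl | rfl | rfl
  · simp only [cn_one] at dr d2r
    exact M.modC (act H.az af o o o (by rw [cn_fix H.ar, mul_one]) dr d2r (by simp))
  · rw [S.hz] at dr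
    rw [S.hz, S.hf] at d2r
    have ac : ∀ {w ψ}, Commute w φ → cn w r = r * ψ → cn (w * b) r = r * (ψ * φ) := fun i j => by
      rw [mul_cn, H.br, H.ri, cn_mul, j, cn_fix i, mul_assoc]
    have := act (H.az.mul_left H.zb.symm) (af.mul_left fb.symm) (φ0 := 1 * φ) (φ1 := f * φ) (φ2 := φ * f * φ)
      (.inr (.inl (one_mul _))) (.inr (.inr (.inr S.zf.symm))) (.inr (.inr (.inl (by rw [S.zf.eq, mul_assoc, H.zz, mul_one]))))
      (ac H.az (by rw [cn_fix H.ar, mul_one])) (by rw [cn_mul, cn_fix S.hb]; exact ac dz dr)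
      (by rw [cn_mul, cn_mul, cn_fix S.hb, cn_fix S.hb]; exact ac (H.Fz S dz df) d2r)
      (by simp only [one_mul, mul_assoc, cancel2 H.zz, cancel2 ff, H.zz])
    rw [cn_mul, cn_fix S.hb] at this
    exact M.modD rq this aq dr af dz
  · rw [S.hf, H.hzf S, S.zf.eq, mul_assoc, H.zz, mul_one] at ex
    exact ex.elim (H.f1 S) (H.fz_ne S)
  · rw [H.hzf S, S.hz, mul_eq_left] at ex
    exact ex.elim (H.zf1 S) (H.f1 S)

end TS

variable (C : CB b c h Q T)
include C

theorem cc1 : Commute c (cn h c) :=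
  (H.tau C.F (C.cen c H.cb (.refl c))).elim (tri_comm H.cc (cn_sq H.cc h) (cn_sq (cn_sq H.cc h) h) (mul_one 1) (.one_left _))
    (tri_comm H.cc (cn_sq H.cc h) (cn_sq (cn_sq H.cc h) h) H.bb (ccn C.F.uh.symm (ccn C.F.uh.symm H.cb)).symm)

theorem sqV (yb : Commute y b) (yc : Commute y c) : y * y = 1 := by
  have k : ∀ {y}, Commute y b → Commute y c → y * y = 1 ∨ y * y = b := fun {y} yb yc => by
    have cT := C.cen c H.cb (.refl c)
    have m := C.cen y yb yc
    have s1 := cn_sq H.cc h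
    have key : ∀ {e}, e * e = 1 → Commute e b → cn y e = e ∨ cn y e = e * b → y * e ∈ Q → y * y = 1 ∨ y * y = b := fun {e} ee eb i j => by
      have l := C.sq _ j
      rw [show y * e * (y * e) = cn y e * (y * y) * e by simp only [cn]; group] at l
      have l' : cn e (y * y) ∈ zpowers b := by
        rw [cn, inv2 ee]
        rcases i with i | i <;> rw [i] at l
        · exact l
        · rw [mul_assoc e, ← (yb.mul_left yb).eq, ← mul_assoc, mul_assoc _ b, ← eb.eq, ← mul_assoc] at l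
          exact (mul_mem_cancel_right (mem_zpowers b)).1 l
      rwa [zp2 H.bb, cn_eq_one, ← cn_fix eb, cn_inj] at l'
    have c1 := H.com C.F m cT (.inl (cn_fix yc))
    have c1b := ccn C.F.uh.symm H.cb
    rcases C.dec y m with e | e | e | e
    · exact (zp2 H.bb).1 (C.sq y e)
    · exact key H.cc H.cb (.inl (cn_fix yc)) e
    · exact key s1 c1b c1 e
    · exact key (sq_mul H.cc s1 (H.cc1 C)) (H.cb.mul_left c1b) (by rwa [cn_mul, cn_fix yc, mul_assoc, mul_right_inj, mul_right_inj]) e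
  refine (k yb yc).resolve_right fun e => ?_
  have := k (H.rc ▸ cn_comm yc r) (H.rb ▸ cn_comm yb r)
  rw [← cn_mul, e, H.rb] at this
  exact this.elim H.c1 H.bc_ne.symm

theorem comV (yb : Commute y b) (yc : Commute y c) (wb : Commute w b) (wc : Commute w c) : Commute y w :=
  comm2 (H.sqV C yb yc) (H.sqV C wb wc) (H.sqV C (yb.mul_left wb) (yc.mul_left wc))

theorem hV (yb : Commute y b) (yc : Commute y c) : Commute (cn h y) c := by
  have hb := C.F.uh.symm
  have k : ∀ {y}, Commute y b → Commute y c → Commute (cn h⁻¹ y) c := fun i j =>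
    inv_cn_cn h c ▸ cn_comm (H.comV C i j (ccn hb H.cb) (H.cc1 C).symm) _
  have := k (ccn hb.inv_left yb) (k yb yc)
  rwa [cn_inv3 C.F.h3, cn_inv_cn] at this

theorem b1' (n : ¬ Q ≤ zpowers b) : False := by
  have hb := C.F.uh.symm
  have cT := C.cen c H.cb (.refl c)
  obtain ⟨w, wQ, wn, wc⟩ : ∃ w ∈ Q, w ∉ zpowers b ∧ Commute w c := by
    obtain ⟨y, m, i, -, j⟩ := exists_out C.F.pg (lt_of_le_of_ne (zpowers_le.2 C.bQ) fun e => n e.ge) C.QT
      (fun t m => C.nrm t (C.F.cu t m)) (norm_of_cent fun t m => cent_zpowers b ▸ mC.2 (C.F.cu t m))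
    have j' : ∀ t ∈ T, cn t y = y ∨ cn t y = y * b := fun t m => by
      simpa only [zp2 H.bb, inv_mul_eq_one, inv_mul_eq_iff_eq_mul, mul_one] using j t m
    have m1 := cn_mem (C.nrm h hb) m
    have nb : ∀ {y}, y ∉ zpowers b → cn h y ∉ zpowers b := fun i e => i (by
      rwa [zp2 H.bb, cn_eq_one, ← cn_fix hb, cn_inj, ← zp2 H.bb] at e)
    rcases j' c cT with e | e
    · exact ⟨y, m, i, (comm_of_cn e).symm⟩
    rcases H.com C.F cT (C.QT m) (.inr e) with e' | e'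
    · exact ⟨_, m1, nb i, (comm_of_cn e').symm⟩
    refine ⟨_, mul_mem m m1, fun l => nb (nb i) ((mul_mem_cancel_left l).1 ((zp2 H.bb).2 (H.tau C.F (C.QT m)))),
      (comm_of_cn ?_).symm⟩
    rw [cn_mul, e, e', mul_assoc, sw (C.cb _ m1).symm.eq, mul_assoc, H.bb, mul_one]
  obtain ⟨y, m, i, j⟩ : ∃ y ∈ Q, cn r y ∈ Q ∧ y ≠ 1 := by
    have key : ∀ {w}, w ∈ Q → w ∉ zpowers b → cn r w ∈ Q ∨ cn r w * c ∈ Q → ∃ y ∈ Q, cn r y ∈ Q ∧ y ≠ 1 := fun {w} m i => Or.rec
      (fun e => ⟨w, m, e, fun e => i (e ▸ one_mem _)⟩) fun e => ⟨w * b, mul_mem m C.bQ, by rwa [cn_mul, H.rb],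
        fun e => i ((mul_mem_cancel_right (mem_zpowers b)).1 (e ▸ one_mem _))⟩
    have m1 := cn_mem (C.nrm h hb) wQ
    have nb : ∀ {y}, y ∉ zpowers b → cn h y ∉ zpowers b := fun i e => i (by
      rwa [zp2 H.bb, cn_eq_one, ← cn_fix hb, cn_inj, ← zp2 H.bb] at e)
    have t : ∀ {w}, w ∈ Q → Commute w c → cn r w ∈ T := fun m i => C.cen _ (H.rc ▸ cn_comm i r) (H.rb ▸ cn_comm (C.cb _ m) r)
    rcases C.idx _ (t wQ wc) _ (t m1 (H.hV C (C.cb w wQ) wc)) with e | e | e
    · exact key wQ wn e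
    · exact key m1 (nb wn) e
    · exact key (mul_mem wQ m1) (fun l => nb (nb wn) ((mul_mem_cancel_left l).1 ((zp2 H.bb).2 (H.tau C.F (C.QT wQ)))))
        (by rwa [cn_mul])
  obtain ⟨x, -, X, -⟩ := H.q1 C.toQQ m i j
  let V := 𝐂[b] ⊓ 𝐂[c]
  have nV : ∀ {p}, (∀ y, Commute y b → Commute y c → Commute (cn p y) b ∧ Commute (cn p y) c) → p ∈ 𝐍(V) := fun e =>
    norm_of fun y m => (e y (mC.1 m.1) (mC.1 m.2)).imp mC.2 mC.2
  have xz : ∀ {y}, Commute y b → Commute y c → Commute y (x * z) := fun i j =>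
    (H.comV C i j X.xb (H.xc X)).mul_right (H.bc ▸ i.mul_right j)
  have n1 : h ∈ 𝐍(V) := nV fun y i j => ⟨ccn hb i, H.hV C i j⟩
  have n2 : hh r g x ∈ 𝐍(V) := nV fun y i j => ⟨H.he X ▸ cn_comm (xz i j) _, H.hb X ▸ cn_comm i _⟩
  have n3 : cn g x ∈ 𝐍(V) := nV fun y i j => ⟨ccn (H.sb X) i, by
    have := cn_comm (xz i j) (cn g x)
    rwa [← H.sc X, cn2 (cn_sq X.xx g)] at this⟩
  have pV : IsPGroup 2 V := pg_of fun y m => .of_sq (H.sqV C (mC.1 m.1) (mC.1 m.2))
  have bV : b ∈ V := ⟨self_mem_cent1 b, mC.2 H.cb.symm⟩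
  have : Fact (Nat.Prime 3) := ⟨Nat.prime_three⟩
  obtain ⟨n, i, j⟩ := (Syl.of_max (zpowers_le.2 n1) (pg3 C.F.h3) fun R p l m => H.nn V R pV p m (ne_bot_of_mem bV H.b1) h
    (l (mem_zpowers h)) C.F.h1).exists_conj_le (pg3 (H.h3 X)) (zpowers_le.2 n2)
  have j1 : cn n (hh r g x) ∈ zpowers h := j (conj_mem_conj.2 (mem_zpowers _))
  obtain ⟨l, e⟩ := H.nn V _ pV (pg3 C.F.h3) (zpowers_le.2 n1) (ne_bot_of_mem bV H.b1) _ j1 (cn_ne_one (H.h1 X)) (mem_zpowers h)
  have xV : cn n x ∈ V := cn_mem i ⟨mC.2 X.xb, mC.2 (H.xc X)⟩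
  have nx : cn n x = b := (H.two C.F.h3 C.F.h1 H.bb H.b1 C.F.uh (e ▸ (cn_comm (H.xh X) n).zpow_right l) (mC.1 xV.1)
    (.of_mem pV xV)).resolve_left (cn_ne_one X.x1)
  refine C.nr (cn n (cn g x)) (nx ▸ cn_comm (H.xs X).symm n)
    (mC.1 (cn_mem (cn_mem (le_norm _ i) n3) (⟨mC.2 H.cb, self_mem_cent1 c⟩ : c ∈ V)).2) ?_
  rw [← e]
  change cn _ (_ ^ l) = (_ ^ l)⁻¹
  rw [cn_zpow, cn_cn, H.sh X, cn_inv, inv_zpow]

theorem caseB : False := by
  have le : Q ≤ zpowers b := by_contra (H.b1' C)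
  have Z := C.cz le
  have hb := C.F.uh.symm
  have nz : ¬ IsConj b z := H.rr ▸ Z.nB2 r
  have c1 := H.cc1 C
  have c1b := ccn hb H.cb
  have s1 := cn_sq H.cc h
  have hz : cn h z = cn h c * b := by rw [← H.cb', cn_mul, cn_fix hb]
  have dec : ∀ {y}, Commute y b → Commute y c → ∃ v, In4 b c v ∧ (y = v ∨ y = v * cn h c) := fun {y} i j => by
    have k : ∀ {y}, y ∈ Q → In4 b c y := fun m => ((zp2 H.bb).1 (le m)).imp_right .inl
    have k' : ∀ {y}, y * c ∈ Q → In4 b c y := fun {y} m => by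
      simpa only [mul_assoc, H.cc, mul_one] using (k m).mul (.inr (.inr (.inl rfl))) H.bb H.cc H.cb.symm
    rcases C.dec y (C.cen y i j) with e | e | e | e
    · exact ⟨y, k e, .inl rfl⟩
    · exact ⟨y, k' e, .inl rfl⟩
    · exact ⟨_, k e, .inr (by rw [mul_assoc, s1, mul_one])⟩
    · rw [c1.eq, ← mul_assoc] at e
      exact ⟨_, k' e, .inr (by rw [mul_assoc, s1, mul_one])⟩
  have zf : Commute z (cn h z) := by
    rw [hz]; exact (H.bc ▸ c1b.symm.mul_left c1).mul_right H.zb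
  have n1 : ¬ IsConj b (cn h z) := fun e => nz (e.trans (isConj_cn h z).symm)
  have B1 := H.Bc.trans (isConj_cn h c)
  have t : cn h (cn h c) = c * cn h c * b := by
    rcases H.tau C.F (C.cen c H.cb (.refl c)) with e | e
    · have e := (eq_inv_of_mul_eq_one_right e).trans (inv2 (sq_mul H.cc s1 c1))
      have fb := ccn hb H.zb
      have B : IsConj b (cn r (cn h z) * c) := B1.trans (isConj_of (p := r) (by
        rw [← mul_one (cn h c), ← H.bb, ← mul_assoc, ← hz, cn_mul, H.rb]))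
      have nB : ¬ IsConj b (cn r (cn h z)) := fun e => n1 (e.trans (isConj_cn _ _).symm)
      obtain ⟨v, i, j | j⟩ := dec (H.rc ▸ cn_comm (H.bz ▸ fb.mul_right zf.symm) r) (H.rb ▸ cn_comm fb r) <;> rw [j] at B nB <;>
        rcases i with rfl | rfl | rfl | rfl
      · exact absurd j (cn_ne_one (cn_ne_one H.z1))
      · exact absurd (.refl _) nB
      · exact absurd H.Bc nB
      · rw [H.bc, ← cn_fix H.rz, cn_inj, cn_fix H.rz] at j
        exact absurd (H.isB (.of3 C.F.h3 C.F.h1) H.zz H.z1 (comm_of_cn j).symm) nz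
      · exact absurd (by rwa [one_mul]) nB
      · refine absurd (B.trans (isConj_of (p := h) ?_).symm) n1
        rw [hz, cn_mul, e, cn_fix hb, c1.eq, mul_assoc, H.cb.eq, ← mul_assoc, c1b.eq]
      · exact absurd (e ▸ B1.trans (isConj_cn h _)) nB
      · rw [mul_assoc, ← c1.eq, mul_assoc, cancel2 H.cc, ← c1b.eq, ← hz] at B
        exact absurd B n1
    · rw [← e, cancel2 (sq_mul H.cc s1 c1)]
  have cen : ∀ y, Commute y b → Commute y z → In4 z (cn h z) y ∨ In4 z (cn h z) (y * b) := fun y i j => by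
    obtain ⟨v, l, e⟩ := dec i (H.bz ▸ i.mul_right j)
    have l' : In4 z (cn h z) v ∨ In4 z (cn h z) (v * b) := by
      rcases l with rfl | rfl | rfl | rfl
      exacts [.inl (.inl rfl), .inr (.inl H.bb), .inr (.inr (.inl H.cb')), .inl (.inr (.inl H.bc))]
    have m : ∀ {v}, In4 z (cn h z) v → In4 z (cn h z) (v * cn h z) := fun e => e.mul (.inr (.inr (.inl rfl))) H.zz (cn_sq H.zz h) zf
    rcases e with rfl | rfl
    · exact l'
    · refine l'.symm.imp (fun e => ?_) fun e => ?_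
      · have := m e
        rwa [hz, c1b.eq, mul_assoc, cancel2 H.bb, ← c1b.eq, ← hz] at this
      · have := m e
        rwa [hz, ← mul_assoc, ← hz] at this
  exact H.b0' ⟨C.F.h3, hb, rfl, by rw [hz, cn_mul, t, cn_fix hb, ← H.cb', c1b.eq, mul_assoc c b, cancel2 H.bb, mul_assoc, H.bb,
    mul_one], zf, nz, fun y i j _ => cen y i j⟩ Z (fun y i j => ((zp2 H.bb).1 (le (C.two y i j))).resolve_right (Z.nsq y)) cen

end Hy

end Cfsg.Lib.SD9
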