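import Cfsg.Agent.Lib.SD9.CaseB

/-! The case `L₂(7)` (helper27). -/

set_option autoImplicit false
set_option linter.unusedSectionVars false

namespace Cfsg.Lib.SD9

open Subgroup Cfsg.Lib.BG Cfsg.Lib.Transfer
open scoped Cfsg.Lib.Transfer

variable {G : Type*} [Group G] {p q s t u v w x y h f e k' φ : G}

/-- the centralizer of the four-group is `2 × D₈` -/
structure CD (b z f e : G) : Prop where
  ff : f * f = 1
  ee : e * e = 1
  fb : Commute f b
  eb : Commute e b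
  zf : Commute z f
  ze : Commute z e
  ef : cn e f = f * z
  cen : ∀ y, Commute y b → Commute y z → ∃ v, In4 b z v ∧ (y = v ∨ y = v * f ∨ y = v * e ∨ y = v * (f * e))

theorem md3 {z ρ u0 u1 u2 : G} (zz : z * z = 1) (d : Commute ρ z) (e0 : cn ρ u0 = u1 ∨ cn ρ u0 = u1 * z)
    (e1 : cn ρ u1 = u2 ∨ cn ρ u1 = u2 * z) (e2 : cn ρ u2 = u0 ∨ cn ρ u2 = u0 * z) : cn (ρ ^ 3) u0 = u0 ∨ cn (ρ ^ 3) u0 = u0 * z := by
  rw [pow_three, mul_cn, mul_cn]
  rcases e0 with e0 | e0 <;> rcases e1 with e1 | e1 <;> rcases e2 with e2 | e2 <;>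
    simp [e0, e1, e2, cn_mul, cn_fix d, mul_assoc, zz]

variable [Finite G]

namespace Hy

variable {a r z b c g k : G} (H : Hy a r z b c g k)
include H

theorem Vm (i : In4 b z v) (j : In4 b z w) : In4 b z (v * w) := i.mul j H.bb H.zz H.zb.symm
theorem Vz : In4 b z z := .inr (.inr (.inl rfl))

section D

variable (D : CD b z f e)
include D

theorem efz : e * f = f * e * z := by rw [of_cn D.ef, mul_assoc, D.ze.eq, mul_assoc]
theorem fez : f * e = e * f * z := by rw [H.efz D, mul_assoc, H.zz, mul_one]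
theorem fe2 : f * e * (f * e) = z := by
  rw [mul_assoc, ← mul_assoc e, H.efz D, mul_assoc, mul_assoc, D.ze.eq, cancel2 D.ee, cancel2 D.ff]
theorem dsymm : CD b z e f := ⟨D.ee, D.ff, D.eb, D.fb, D.ze, D.zf, cn_of (by rw [H.fez D, mul_assoc, ← D.zf.eq, mul_assoc]),
  fun y i j => by
    obtain ⟨v, l, m | m | m | m⟩ := D.cen y i j
    exacts [⟨v, l, .inl m⟩, ⟨v, l, .inr (.inr (.inl m))⟩, ⟨v, l, .inr (.inl m)⟩, ⟨v * z, H.Vm l H.Vz, .inr (.inr (.inr (by
      rw [m, H.fez D, mul_assoc v z, (D.ze.mul_right D.zf).eq])))⟩]⟩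
theorem dz : CD b z f (z * e) := ⟨D.ff, sq_mul H.zz D.ee D.ze, D.fb, H.zb.mul_left D.eb, D.zf, (Commute.refl z).mul_right D.ze,
  by rw [mul_cn, D.ef, cn_fix (D.zf.mul_right (.refl z))], fun y i j => by
    obtain ⟨v, l, m | m | m | m⟩ := D.cen y i j
    exacts [⟨v, l, .inl m⟩, ⟨v, l, .inr (.inl m)⟩, ⟨v * z, H.Vm l H.Vz, .inr (.inr (.inl (by rw [m, mul_assoc, cancel2 H.zz])))⟩,
      ⟨v * z, H.Vm l H.Vz, .inr (.inr (.inr (by rw [m, sw D.zf.symm.eq, mul_assoc, mul_assoc, cancel2 H.zz])))⟩]⟩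
theorem vf (l : In4 b z v) : Commute v f := (l.comm D.fb D.zf.symm).symm
theorem nef : ¬ Commute e f := fun i => H.z1 (mul_eq_left.1 (D.ef.symm.trans (cn_fix i)))
theorem cenf (i : Commute y b) (j : Commute y z) (l : Commute y f) : ∃ v, In4 b z v ∧ (y = v ∨ y = v * f) := by
  obtain ⟨v, m, n | n | rfl | rfl⟩ := D.cen y i j
  · exact ⟨v, m, .inl n⟩
  · exact ⟨v, m, .inr n⟩
  · exact absurd (inv_mul_cancel_left v e ▸ (H.vf D m).inv_left.mul_left l) (H.nef D)
  · exact absurd (by simpa [mul_assoc] using ((H.vf D m).mul_left (.refl f)).inv_left.mul_left l) (H.nef D)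
theorem cenV (i : Commute y b) (j : Commute y z) (l : Commute y f) (l' : Commute y e) : In4 b z y := by
  obtain ⟨v, m, rfl | rfl⟩ := H.cenf D i j l
  · exact m
  · exact absurd (inv_mul_cancel_left v f ▸ (H.vf (H.dsymm D) m).inv_left.mul_left l').symm (H.nef D)
theorem cen1 (i : In4 b z y) (j : cn p b = c) (l : Commute p z) (m : Commute p y) : y = 1 ∨ y = z := by
  rcases i with rfl | rfl | rfl | rfl
  · exact .inl rfl
  · exact absurd ((cn_fix m).symm.trans j) H.bc_ne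
  · exact .inr rfl
  · have := cn_fix m
    rw [cn_mul, j, cn_fix l, mul_left_inj] at this
    exact absurd this.symm H.bc_ne
theorem sqfe (l : In4 b z v) : v * (f * e) * (v * (f * e)) = z := by
  rw [((H.vf D l).mul_right (H.vf (H.dsymm D) l)).symm.mul_mul_mul_comm, l.sq H.bb H.zz H.zb.symm, H.fe2 D, one_mul]

theorem c1' (nz : ¬ IsConj b z) (rf : cn r f = e) : False := by
  have re : cn r e = f := by rw [← rf, ← mul_cn, H.rr, cn_fix D.zf]
  have fe := D.fb.mul_left D.eb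
  obtain ⟨w, hw⟩ : ∃ w, w = b * (f * e) := ⟨_, rfl⟩
  have wb : Commute w b := hw ▸ (Commute.refl b).mul_left fe
  have wz : Commute w z := hw ▸ H.zb.symm.mul_left (D.zf.mul_right D.ze).symm
  have rv : ∀ v, cn r (v * (f * e)) = cn r v * z * (f * e) := fun v => by
    rw [cn_mul, cn_mul, rf, re, H.efz D, mul_assoc _ z, (D.zf.mul_right D.ze).eq]
  have rw' : Commute r w := comm_of_cn (by rw [hw, rv, H.rb, H.cz'])
  have ww : w * w = z := hw ▸ H.sqfe D (.inr (.inl rfl))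
  have ar : Commute (cn a w) r := cn_fix H.ar ▸ cn_comm rw'.symm a
  have ab : Commute (cn a w) b := mul_inv_cancel_left r b ▸ ar.mul_right (H.ab ▸ cn_comm wb a)
  have aw : cn a w = w ∨ cn a w = w * z := by
    have s : cn a w * cn a w = z := by rw [← cn_mul, ww, cn_fix H.az]
    obtain ⟨v, l, m | m | m | m⟩ := D.cen _ ab (H.rr ▸ ar.mul_right ar) <;> rw [m] at s ar ⊢
    · exact absurd (s.symm.trans (l.sq H.bb H.zz H.zb.symm)) H.z1
    · exact absurd (s.symm.trans (sq_mul (l.sq H.bb H.zz H.zb.symm) D.ff (H.vf D l))) H.z1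
    · exact absurd (s.symm.trans (sq_mul (l.sq H.bb H.zz H.zb.symm) D.ee (H.vf (H.dsymm D) l))) H.z1
    · have := cn_fix ar.symm
      rw [rv, mul_left_inj] at this
      rcases l with rfl | rfl | rfl | rfl
      · rw [cn_one, one_mul] at this; exact absurd this H.z1
      · exact .inl hw.symm
      · rw [cn_fix H.rz, H.zz] at this; exact absurd this.symm H.z1
      · exact .inr (by rw [hw, mul_assoc, mul_assoc, (D.zf.mul_right D.ze).eq, mul_assoc])
  have fr : cn f r = b * w * r := by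
    rw [hw, cancel2 H.bb, mul_assoc, ← of_cn rf, cn, inv2 D.ff, mul_assoc]
  have fw : cn f w = w * z := by
    rw [hw, cn_mul, cn_mul, cn_fix D.fb, cn_self, (H.dsymm D).ef]; simp only [mul_assoc]
  have d := H.az.mul_left D.zf.symm
  have e0 : cn (a * f) b = r * b * z := by rw [mul_cn, cn_fix D.fb, H.ab, H.ri, mul_assoc, H.zb.eq, mul_assoc]
  have r1 : r ≠ 1 := fun e => H.z1 (by rw [← H.rr, e, mul_one])
  refine nz (H.isB (t3_md H.zz H.zb.symm d (md3 (u1 := r * b) (u2 := r * w) H.zz d (.inr e0) ?_ ?_) ?_ ?_) H.zz H.z1 d.symm)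
  · have : cn (a * f) (r * b) = r * z * cn a w := by
      rw [mul_cn, cn_mul, fr, cn_fix D.fb, cn_mul, cn_mul, cn_mul, H.ab, cn_fix H.ar, mul_assoc, mul_inv_cancel_left,
        mul_assoc, ab.eq, mul_assoc, cancel2 H.bb, H.ri]
    rw [this]
    exact aw.symm.imp (fun e => by rw [e, mul_assoc, wz.eq, cancel2 H.zz]) fun e => by rw [e, mul_assoc, mul_assoc, wz.eq]
  · refine .inr ?_
    rw [mul_cn, cn_mul, fr, fw, mul_assoc b, ← rw'.eq, mul_assoc, mul_assoc, ← mul_assoc w, ww, H.zz, mul_one, cn_mul,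
      cn_fix H.ar, H.ab, mul_assoc, of_cn H.br, ← mul_assoc, ← mul_inv_rev, H.rr, inv2 H.zz, H.zb.eq]
  · rw [e0, mul_assoc, ← H.zb.eq, ← mul_assoc, ← H.ri, Ne, mul_eq_right, inv_eq_one]; exact r1
  · rw [e0, Ne, mul_left_inj, mul_eq_right]; exact r1

theorem tsD (h3 : h ^ 3 = 1) (hb : Commute h b) (hz : cn h z = f) (eh : cn e h = h⁻¹) (nz : ¬ IsConj b z) : TS b z f h := by
  refine ⟨h3, hb, hz, ?_, D.zf, nz, fun y i j l => ?_⟩
  · have := D.ef
    rw [← hz, ← cn_cn, eh, cn_fix D.ze.symm, cn_inv3 h3, hz] at this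
    rw [this, D.zf.eq]
  · obtain ⟨v, m, e⟩ := H.cenf D i j l
    have l' : In4 z f v ∨ In4 z f (v * b) := by
      rcases m with rfl | rfl | rfl | rfl
      exacts [.inl (.inl rfl), .inr (.inl H.bb), .inl (.inr (.inl rfl)), .inr (.inr (.inl (by rw [H.bz, H.cb'])))]
    rcases e with rfl | rfl
    · exact l'
    · refine l'.imp (fun e => e.mul (.inr (.inr (.inl rfl))) H.zz D.ff D.zf) fun e => ?_
      rw [mul_assoc, D.fb.eq, ← mul_assoc]
      exact e.mul (.inr (.inr (.inl rfl))) H.zz D.ff D.zf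

theorem rf (S : TS b z f h) (S' : TS b z e k') : (cn r f = f ∨ cn r f = z * f) ∨ cn r f = e ∨ cn r f = z * e := by
  have nB : ¬ IsConj b (cn r f) := fun e => H.nF S (.inr (.inr (.inl rfl))) (e.trans (isConj_cn r f).symm)
  have k : ∀ {v f h}, TS b z f h → In4 b z v → ¬ IsConj b (v * f) → v * f = f ∨ v * f = z * f := fun S l n => by
    rcases l with rfl | rfl | rfl | rfl
    · exact .inl (one_mul _)
    · exact absurd ((H.fb S).eq ▸ H.BF S (.inr (.inr (.inl rfl)))) n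
    · exact .inr rfl
    · exact absurd (by simpa only [mul_assoc, (H.zb.mul_left (H.fb S)).symm.eq] using H.BF S (.inr (.inr (.inr rfl)))) n
  obtain ⟨v, l, m | m | m | m⟩ := D.cen _ (H.rc ▸ cn_comm (H.bz ▸ D.fb.mul_right D.zf.symm) r)
    (cn_fix H.rz ▸ cn_comm D.zf.symm r)
  · rcases l with rfl | rfl | rfl | rfl
    · exact absurd m (cn_ne_one (H.f1 S))
    · exact absurd (m ▸ IsConj.refl _) nB
    · exact absurd (cn_inj.1 (m.trans (cn_fix H.rz).symm)) (H.fz_ne S)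
    · exact absurd (m ▸ H.bz ▸ H.Bc) nB
  · exact m ▸ .inl (k S l (m ▸ nB))
  · exact m ▸ .inr (k S' l (m ▸ nB))
  · exact absurd ((H.sqfe D l).symm.trans (m ▸ cn_sq D.ff r)) H.z1

theorem exs (i : cn r f = f ∨ cn r f = z * f) (j : cn r e = e ∨ cn r e = z * e) :
    ∃ s, s * s = z ∧ cn b s = s⁻¹ ∧ Commute s f ∧ Commute s e := by
  have D' := H.dsymm D
  have fc := H.bz ▸ D.fb.mul_right D.zf.symm
  have ec := H.bz ▸ D.eb.mul_right D.ze.symm
  obtain ⟨y, yz, yb, yf, ye⟩ : ∃ y, Commute y z ∧ cn y b = c ∧ cn y f = f ∧ (cn y e = e ∨ cn y e = z * e) := i.elim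
    (fun i => ⟨r, H.rz, H.rb, i, j⟩) fun i => ⟨e * r, D.ze.symm.mul_left H.rz, by rw [mul_cn, H.rb, cn_fix ec],
      by rw [mul_cn, i, cn_mul, D.ef, cn_fix D.ze.symm, ← D.zf.eq, cancel2 H.zz],
      j.imp (fun j => by rw [mul_cn, j, cn_self]) fun j => by rw [mul_cn, j, cn_mul, cn_self, cn_fix D.ze.symm]⟩
  obtain ⟨y, yz, yb, yf, ye⟩ : ∃ y, Commute y z ∧ cn y b = c ∧ cn y f = f ∧ cn y e = e := ye.elim
    (fun i => ⟨y, yz, yb, yf, i⟩) fun i => ⟨f * y, D.zf.symm.mul_left yz, by rw [mul_cn, yb, cn_fix fc],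
      by rw [mul_cn, yf, cn_self], by rw [mul_cn, i, cn_mul, D'.ef, cn_fix D.zf.symm, ← D.ze.eq, cancel2 H.zz]⟩
  have yf := comm_of_cn yf
  have ye := comm_of_cn ye
  obtain ⟨s, ss, sb, sf, se⟩ : ∃ s, s * s = z ∧ cn s b = c ∧ Commute s f ∧ Commute s e :=
    (H.cen1 D (H.cenV D (comm_of_cn (by rw [mul_cn, yb, ← H.bz, cn_mul, yb, cn_fix yz, H.cz'])) (yz.mul_left yz)
      (yf.mul_left yf) (ye.mul_left ye)) yb yz ((Commute.refl y).mul_right (.refl y))).elim
      (fun i => ⟨y * b, by rw [← mul_assoc, of_cn yb, mul_assoc c, i, mul_one, H.cb'], by rw [mul_cn, cn_self, yb],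
        yf.mul_left D.fb.symm, ye.mul_left D.eb.symm⟩) fun i => ⟨y, i, yb, yf, ye⟩
  refine ⟨s, ss, ?_, sf, se⟩
  rw [cn, inv2 H.bb, mul_assoc, of_cn sb, ← mul_assoc, H.bc, ← ss, eq_inv_iff_mul_eq_one, mul_assoc, mul_assoc, ← mul_assoc,
    ss, H.zz]

variable (S : TS b z f h) (eh : cn e h = h⁻¹) (ss : s * s = z) (bs : cn b s = s⁻¹) (sf : Commute s f) (se : Commute s e)
include S eh se

theorem ecn : cn e (cn h s) = cn h (cn h s) := by rw [← cn_cn, eh, cn_fix se.symm, cn_inv3 S.h3]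

include ss in
theorem four (t : s * cn h s * cn h (cn h s) = 1) (c : Commute s (cn h s)) : cn (cn h s) e = s * f * e := by
  have := of_cn (p := e) (cn_inv e (cn h s))
  rw [H.ecn D S eh se, eq_inv_of_mul_eq_one_right t, inv_inv] at this
  rw [cn, mul_assoc, this, ← S.hz, ← ss, cn_mul, ← mul_assoc, ← mul_assoc, ← c.eq, mul_assoc s]

include ss bs in
theorem side (sf : Commute s f) (Z : CZ b) (S' : TS b z e k') (t : s * cn h s * cn h (cn h s) = 1) (c : Commute s (cn h s))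
    (t' : s * b * cn k' (s * b) * cn k' (cn k' (s * b)) = 1) : False := by
  have sz : Commute s z := ss ▸ (Commute.refl s).mul_right (.refl s)
  have yy : s * b * (s * b) = 1 := by rw [mul_assoc, sw (of_cn bs), mul_assoc, H.bb, mul_one, mul_inv_cancel]
  have yz := sz.mul_left H.zb.symm
  have ye := se.mul_left D.eb.symm
  have yb : cn (s * b) b = b * z := by rw [mul_cn, cn_self, cn_of_inv bs, ss, H.zb.eq]
  have e1 : cn (cn h s) (b * e) = s * b * (z * e) := by
    have : cn b (cn h s) = (cn h s)⁻¹ := by rw [← cn_fix S.hb, cn_cn, bs, cn_inv]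
    rw [cn_mul, cn_of_inv this, ← cn_mul, ss, S.hz, H.four D S eh ss se t c, mul_assoc f, ← mul_assoc b, ← mul_assoc b, of_cn bs,
      inv_eq_of_mul_eq_one_right (b := s * z) (by rw [← mul_assoc, ss, H.zz])]
    simp only [mul_assoc, sw sf.symm.eq, sw D.zf.symm.eq, sw D.fb.eq, cancel2 D.ff, sw H.zb.eq]
  have c' := tri_comm yy (cn_sq yy k') (cn_sq (cn_sq yy k') k') (mul_one 1) (.one_left _) t'
  have z' := H.Fz S' yz ye
  have e' := H.Ff S' yz
  refine Z.nB (H.r4_of S' (cn_sq yy k') (yz.mul_left ((Commute.refl z).mul_left D.ze.symm)) (ye.mul_left (D.ze.mul_left (.refl e)))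
    z' e' (c'.mul_left (z'.mul_right e').symm) (by rw [mul_cn, cn_fix (H.zb.mul_left D.eb), yb]) ?_)
    ((D.eb.eq ▸ H.BF S' (.inr (.inr (.inl rfl)))).trans (isConj_of e1))
  have := congrArg (cn k') yb
  rwa [← cn_cn, cn_mul k' b, S'.hz, cn_fix S'.hb] at this

end D

theorem caseC (C : CC b z c h f k' e) : False := by
  have nz : ¬ IsConj b z := H.rr ▸ C.nB2 r
  have ff : f * f = 1 := C.hz ▸ cn_sq H.zz h
  have ee : e * e = 1 := C.kz ▸ cn_sq H.zz k'
  have fb : Commute f b := C.hz ▸ ccn C.hb H.zb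
  have eb : Commute e b := C.kz ▸ ccn C.kb H.zb
  have fe : f * e * (f * e) = z := C.sq.resolve_right fun i => by
    have j : cn r (f * e) * cn r (f * e) = b := by rw [← cn_mul, i, H.rc]
    exact C.nsq _ j
  have D : CD b z f e := ⟨ff, ee, fb, eb, C.zf, C.ze, by rw [← fe, mul_assoc f e, cancel2 ff, cn, inv2 ee, mul_assoc], C.cen⟩
  have D' := H.dsymm D
  have S := H.tsD D C.h3 C.hb C.hz C.eh nz
  have S' := H.tsD D' C.k3 C.kb C.kz C.fk nz
  obtain ⟨s, ss, bs, sf, se⟩ := H.exs D ((H.rf D S S').resolve_right (Or.rec (H.c1' D nz) (H.c1' (H.dz D) nz)))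
    ((H.rf D' S' S).resolve_right (Or.rec (H.c1' D' nz) (H.c1' (H.dz D') nz)))
  have sz : Commute s z := ss ▸ (Commute.refl s).mul_right (.refl s)
  rcases H.ts S ss bs sf with ⟨t, i⟩ | t <;> rcases H.ts S' ss bs se with ⟨t', i'⟩ | t'
  · have e1 := H.four D S C.eh ss se t i
    have e2 := H.four D' S' C.fk ss sf t' i'
    have d := (H.Fz S sz sf).mul_left (H.Fz S' sz se)
    have e3 : cn (cn h s * cn k' s) f = e := by
      rw [mul_cn, e2, cn_mul, cn_mul, e1, cn_fix i.symm, cn_fix (H.Ff S sz), ← mul_assoc, ← mul_assoc, ss, mul_assoc z,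
        mul_assoc z, H.fez D, mul_assoc e, mul_assoc e, C.zf.symm.eq, mul_assoc, ff, mul_one, ← C.ze.eq, cancel2 H.zz]
    have e4 : cn (cn h s * cn k' s) e = s * f * e := by rw [mul_cn, cn_fix (H.Ff S' sz), e1]
    refine nz (H.isB (t3_cn (x := f) ?_ ?_) H.zz H.z1 d.symm)
    · rw [pow_three, mul_cn (_ * _ : G), mul_cn (_ * _ : G), e3, e4, cn_mul, cn_mul, e3, e4, cn_fix (i.symm.mul_left i'.symm)]
      simp only [mul_assoc, sw se.symm.eq, sw ss, sw (H.efz D), C.ze.eq, ee, mul_one, sw ee, one_mul, ← C.zf.eq, cancel2 H.zz]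
    · exact fun i => H.nef D (e3.symm.trans i ▸ .refl f)
  · exact H.side D S C.eh ss bs se sf C.toCZ S' t i t'
  · exact H.side D' S' C.fk ss bs sf se C.toCZ S t' i' t
  have yy : s * b * (s * b) = 1 := by rw [mul_assoc, sw (of_cn bs), mul_assoc, H.bb, mul_one, mul_inv_cancel]
  have yz := sz.mul_left H.zb.symm
  have yf := sf.mul_left fb.symm
  have ye := se.mul_left eb.symm
  have yb : cn (s * b) b = b * z := by rw [mul_cn, cn_self, cn_of_inv bs, ss, H.zb.eq]
  generalize s * b = y at t t' yy yz yf ye yb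
  have key : ∀ {f e h}, CD b z f e → TS b z f h → cn e h = h⁻¹ → Commute y e → y * cn h y * cn h (cn h y) = 1 →
      Commute y (cn h y) ∧ cn (cn h y) b = b * f ∧ cn e (cn h y) = y * cn h y ∧ cn (cn h y) e = y * e := fun {f e h} D S eh ye t => by
    have c := tri_comm yy (cn_sq yy h) (cn_sq (cn_sq yy h) h) (mul_one 1) (.one_left _) t
    have i : cn e (cn h y) = y * cn h y := by
      rw [H.ecn D S eh ye, eq_inv_of_mul_eq_one_right t, inv2 (sq_mul yy (cn_sq yy h) c)]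
    refine ⟨c, ?_, i, ?_⟩
    · have := congrArg (cn h) yb
      rwa [← cn_cn, cn_mul h b, S.hz, cn_fix S.hb] at this
    · rw [cn, inv2 (cn_sq yy h), mul_assoc, of_cn i, c.eq, mul_assoc, cancel2 (cn_sq yy h)]
  obtain ⟨yp, pb, ep, pe⟩ := key D S C.eh ye t
  obtain ⟨yq, qb, fq, qf⟩ := key D' S' C.fk yf t'
  have pz := H.Fz S yz yf
  have pf := H.Ff S yz
  have qz := H.Fz S' yz ye
  have qe := H.Ff S' yz
  have M : M7 b y z f e (cn h y) (cn k' y) := ⟨C.toCZ, H.res, H.bb, yy, H.zz, ff, ee, cn_sq yy h, cn_sq yy k', H.zb, yz.symm,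
    C.zf, C.ze, pz.symm, qz.symm, fb.symm, eb.symm, yb, yf, ye, yp, yq, D.ef, pf, qe, pb, qb, ep, fq, H.z1, H.b1, nz,
    fun K i j l m n o o' => by
      obtain ⟨v, a, rfl | rfl | rfl | rfl⟩ := C.cen n o o'
      exacts [a.mem i j, mul_mem (a.mem i j) l, mul_mem (a.mem i j) m, mul_mem (a.mem i j) (mul_mem l m)]⟩
  generalize cn h y = p at *
  generalize cn k' y = q at *
  have y' := (yp.mul_right yq).symm
  have e1 : cn (p * q) f = y * f := by rw [mul_cn, qf, cn_mul, cn_fix yp.symm, cn_fix pf]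
  have e2 : cn (p * q) e = y * e := by rw [mul_cn, cn_fix qe, pe]
  have e3 : cn (p * q) b = b * f * (y * e) := by rw [mul_cn, qb, cn_mul, pb, pe]
  have := H.cen1 D (H.cenV D (y := y * (p * q * (p * q))) (comm_of_cn ?_) (yz.mul_left ((pz.mul_left qz).mul_left (pz.mul_left qz)))
    (yf.mul_left (comm_of_cn ?_)) (ye.mul_left (comm_of_cn ?_))) (yb.trans H.bz) yz
    ((Commute.refl y).mul_right (y'.mul_left y').symm)
  · rcases this with i | i
    · exact M.modE (by rw [eq_inv_of_mul_eq_one_right i, inv2 yy])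
    · exact M.modF (by rw [← i, cancel2 yy])
  · rw [mul_cn, mul_cn (p * q), e3, cn_mul (p * q), cn_mul (p * q), cn_mul (p * q), e3, e1, e2, cn_fix y', cancel2 yy,
      show b * f * (y * e) * (y * f) * e = b * (f * e * (f * e)) by
        simp only [mul_assoc, sw ye.symm.eq, sw yf.symm.eq, cancel2 yy], fe, cn_mul, yb, cn_fix yz, mul_assoc, H.zz, mul_one]
  · rw [mul_cn (p * q), e1, cn_mul, e1, cn_fix y', cancel2 yy]
  · rw [mul_cn (p * q), e2, cn_mul, e2, cn_fix y', cancel2 yy]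

theorem one (uu : u * u = 1) (u1 : u ≠ 1) : IsConj b u := by
  rcases H.tri with ⟨Q, A⟩ | ⟨h, Q, T, C⟩ | ⟨h, f, k, e, C⟩
  exacts [H.caseA A uu u1, (H.caseB C).elim, (H.caseC C).elim]

end Hy

end Cfsg.Lib.SD9
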