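import Cfsg.Agent.Lib.SD9.Quot

/-! The three cases, in terms of elements (helper27). -/

set_option autoImplicit false
set_option linter.unusedSectionVars false

namespace Cfsg.Lib.SD9

open Subgroup Cfsg.Lib.BG Cfsg.Lib.Transfer Equiv
open scoped Cfsg.Lib.Transfer MatrixGroups

variable {G L : Type*} [Group G] [Group L] {p q s t u v w x y h : G} {K Q T : Subgroup G} {ψ : G → L}

/-- membership in a four-group -/
def In4 (u p w : G) : Prop := w = 1 ∨ w = u ∨ w = p ∨ w = u * p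

/-- an elementary abelian group of order 16 -/
def R4 (u p q s : G) : Prop := p * p = 1 ∧ q * q = 1 ∧ s * s = 1 ∧ u * p = p * u ∧ u * q = q * u ∧ u * s = s * u ∧
  p * q = q * p ∧ p * s = s * p ∧ q * s = s * q ∧ p ≠ 1 ∧ p ≠ u ∧ ¬ In4 u p q ∧ ¬ In4 u p s ∧ ¬ In4 u p (q * s)

theorem R4.cn (e : R4 u p q s) (w : G) : R4 (cn w u) (cn w p) (cn w q) (cn w s) := by
  simpa only [R4, In4, ← cn_mul, cn_inj, cn_eq_one, Ne] using e

/-- the centralizer is `2 × L` with `L` of rank two -/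
structure CZ (b : G) : Prop where
  nsq : ∀ y, y * y ≠ b
  r4 : ∀ p q s, ¬ R4 b p q s

theorem CZ.nB {b : G} (Z : CZ b) (e : R4 u p q s) : ¬ IsConj b u := fun f => by
  obtain ⟨w, rfl⟩ := ex_cn f
  have := e.cn w⁻¹
  rw [inv_cn_cn] at this
  exact Z.r4 _ _ _ this

theorem CZ.nB2 {b : G} (Z : CZ b) (y : G) : ¬ IsConj b (y * y) := fun f => by
  obtain ⟨w, e⟩ := ex_cn f
  exact Z.nsq (cn w⁻¹ y) (by rw [← cn_mul, ← e, inv_cn_cn])

theorem LZ.r4' {z : L} (Z : LZ z) {p q s : L} (a : p * p = 1) (b : q * q = 1) (c : s * s = 1) (d : p * q = q * p)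
    (e : p * s = s * p) (f : q * s = s * q) : p = 1 ∨ (q = 1 ∨ q = p) ∨ (s = 1 ∨ s = p) ∨ q * s = 1 ∨ q * s = p := by
  refine (Z.cls p a).imp_right fun ⟨w, i⟩ => ?_
  have := Z.r4 (cn w⁻¹ q) (cn w⁻¹ s)
  simp only [← cn_symm i, ← cn_mul, cn_inj, cn_eq_one] at this
  exact this b c d.symm e.symm f

/-- the soluble case -/
structure CA (b c g : G) (Q : Subgroup G) : Prop extends QQ b c Q where
  q : ∀ y, Commute y b → E2 y → E2 (y * c) → y ∈ Q ∨ y * c ∈ Q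
  sq : ∀ y, Commute y b → E2 y → y * y ∈ Q
  a4 : ∀ p, Commute p b → p * p = 1 → Commute p (cn g p) → p ∈ Q

/-- the case `A₅` -/
structure CB (b c h : G) (Q T : Subgroup G) : Prop extends QQ b c Q where
  F : FP b h T
  QT : Q ≤ T
  cen : ∀ y, Commute y b → Commute y c → y ∈ T
  sq : ∀ y ∈ Q, y * y ∈ zpowers b
  dec : ∀ y ∈ T, y ∈ Q ∨ y * c ∈ Q ∨ y * cn h c ∈ Q ∨ y * (c * cn h c) ∈ Q
  idx : ∀ y ∈ T, ∀ w ∈ T, (y ∈ Q ∨ y * c ∈ Q) ∨ (w ∈ Q ∨ w * c ∈ Q) ∨ y * w ∈ Q ∨ y * w * c ∈ Q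
  nr : ∀ s, Commute s b → Commute (cn s c) c → cn s h ≠ h⁻¹
  two : ∀ y, Commute y b → E2 y → y * y ∈ Q
  cz : Q ≤ zpowers b → CZ b

/-- the case `L₂(7)` -/
structure CC (b z c h f k e : G) : Prop extends CZ b where
  h3 : h ^ 3 = 1
  h1 : h ≠ 1
  hb : Commute h b
  hz : cn h z = f
  zf : Commute z f
  k3 : k ^ 3 = 1
  k1 : k ≠ 1
  kb : Commute k b
  kz : cn k z = e
  ze : Commute z e
  eh : cn e h = h⁻¹
  fk : cn f k = k⁻¹
  sq : f * e * (f * e) = z ∨ f * e * (f * e) = c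
  cen : ∀ y, Commute y b → Commute y z → ∃ v, In4 b z v ∧ (y = v ∨ y = v * f ∨ y = v * e ∨ y = v * (f * e))

variable [Finite G]

namespace Hy

variable {a r z b c g k : G} (H : Hy a r z b c g k)
include H

theorem nQ (pg : IsPGroup 2 Q) (n : g ∈ 𝐍(Q)) : c ∉ Q := fun e => ne_inv3 H.g3 H.g1 (by
  have := E2.of_mem pg (mul_mem (cn_mem n e) (inv_mem e))
  rw [cn, mul_assoc, mul_assoc, ← mul_assoc c, ← cn, cn_inv, H.cg, inv_inv] at this
  exact mul_eq_one_iff_eq_inv.1 (this.eq1 (by rw [← sq, ← pow_mul, pow_mul', H.g3, one_pow])))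

theorem lift3 {l : L} (P : Ph b ψ K) (pg : IsPGroup 2 K) (su : ∀ l, ∃ x, Commute x b ∧ ψ x = l) (l3 : l ^ 3 = 1) (l1 : l ≠ 1) :
    ∃ h, h ^ 3 = 1 ∧ h ≠ 1 ∧ Commute h b ∧ ψ h = l := by
  obtain ⟨w, i, rfl⟩ := su l
  have j := H.t3sq (t3_of K (P.mem (i.pow_left 3) ((P.pow i 3).trans l3)) fun e => l1 (P.ker.1 e).2)
  have m : ψ (w ^ 4) = ψ w := by rw [P.pow i, pow_succ, l3, one_mul]
  exact ⟨w ^ 4, by rw [← pow_mul, show 4 * 3 = 2 * 3 * 2 from rfl, pow_mul, pow_mul, j.1, one_pow],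
    fun e => l1 (by rw [← m, e, P.one]), i.pow_left 4, m⟩

theorem czz (P : Ph b ψ K) (bK : b ∈ K) (Kb : K ≤ zpowers b) (su : ∀ l, ∃ x, Commute x b ∧ ψ x = l) (e : t * t = 1)
    (tb : Commute t b) (Z : LZ (ψ t)) : CZ b := by
  have m : ∀ {x y}, Commute x b → Commute y b → ψ x = ψ y → x = y ∨ x = b * y := fun {x y} i j e => by
    simpa only [zp2 H.bb, mul_inv_eq_one, mul_inv_eq_iff_eq_mul, one_mul] using
      Kb (P.mem (i.mul_left j.inv_left) (by rw [P.mul i j.inv_left, P.inv j, e, mul_inv_cancel]))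
  have m1 : ∀ {x}, Commute x b → ψ x = 1 → x = 1 ∨ x = b := fun i e => (zp2 H.bb).1 (Kb (P.mem i e))
  refine ⟨fun y f => ?_, fun p q s ⟨pp, qq, ss, bp, bq, bs, pq, ps, qs, p1, pb, i, j, l⟩ => ?_⟩
  · have i : Commute y b := f ▸ (Commute.refl y).mul_right (.refl y)
    refine H.b1 (f.symm.trans ?_)
    rcases Z.cls (ψ y) (by rw [← P.mul i i, f, (P.ker.1 bK).2]) with j | ⟨w, j⟩
    · rcases m1 i j with rfl | rfl
      exacts [mul_one 1, H.bb]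
    · obtain ⟨w, l, rfl⟩ := su w
      rcases m i (ccn l tb) (by rw [P.cn' l tb, j]) with rfl | rfl
      exacts [cn_sq e w, sq_mul H.bb (cn_sq e w) (ccn l tb).symm]
  · have n : ∀ {w}, Commute w b → ψ w = 1 ∨ ψ w = ψ p → In4 b p w := fun i e => e.elim
      (fun e => (m1 i e).imp_right .inl) fun e => .inr (.inr (m i bp.symm e))
    rcases Z.r4' (P.sq bp.symm pp) (P.sq bq.symm qq) (P.sq bs.symm ss) (P.com bp.symm bq.symm pq) (P.com bp.symm bs.symm ps)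
      (P.com bq.symm bs.symm qs) with f | f | f | f
    · exact (m1 bp.symm f).elim p1 pb
    · exact i (n bq.symm f)
    · exact j (n bs.symm f)
    · exact l (n (Commute.mul_left bq.symm bs.symm) (by rwa [P.mul bq.symm bs.symm]))

set_option synthInstance.maxSize 2000 in
theorem ca {ψ : G → Perm (Fin 3)} (P : Ph b ψ K) (n : Group.IsNilpotent K) (bK : b ∈ K) (gK : g ∉ K) :
    CA b c g 𝐎({2}, K) := by
  have m : ∀ {y}, Commute y b → E2 y → ψ y = 1 → y ∈ 𝐎({2}, K) := fun i j e =>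
    zpowers_le.1 (nil_le_pcore n (zpowers_le.2 (P.mem i e)) (PiGrp.p_iff.2 j.pg))
  have s : ∀ {y}, Commute y b → E2 y → ψ y * ψ y = 1 := fun {y} i j =>
    ((P.e2 i j).mul (P.e2 i j) (.refl _)).eq1 ((by decide +kernel : ∀ l : Perm (Fin 3), (l * l) ^ 3 = 1) _)
  have nr : ∀ w, Commute w b → w ∈ 𝐍(𝐎({2}, K)) := fun w i => zpowers_le.1 (norm_pcore (zpowers_le.2 (P.nrm i)) _)
  have pg := pcore_pgroup 2 K
  have cQ := H.nQ pg (nr g H.bg.symm)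
  have g1 : ψ g ≠ 1 := fun e => gK (P.mem H.bg.symm e)
  have g3 : ψ g ^ 3 = 1 := by rw [← P.pow H.bg.symm, H.g3, P.one]
  refine ⟨⟨pg, fun x e => (P.ker.1 (pcore_le _ _ e)).1, nr, m (.refl b) (.of_sq H.bb) (P.ker.1 bK).2, cQ⟩,
    fun y i j l => ?_, fun y i j => m (i.mul_left i) (j.mul j (.refl _)) ((P.mul i i).trans (s i j)),
    fun p i j l => m i (.of_sq j) ?_⟩
  · have e := s (i.mul_left H.cb) l
    rw [P.mul i H.cb] at e
    exact ((by decide +kernel : ∀ p q : Perm (Fin 3), p * p = 1 → q * q = 1 → q ≠ 1 → p * q * (p * q) = 1 → p = 1 ∨ p * q = 1)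
      _ _ (s i j) (P.sq H.cb H.cc) (fun e => cQ (m H.cb (.of_sq H.cc) e)) e).imp (m i j)
      fun e => m (i.mul_left H.cb) l ((P.mul i H.cb).trans e)
  · have e := P.com i (ccn H.bg.symm i) l
    rw [P.cn' H.bg.symm i, cn] at e
    exact (by decide +kernel : ∀ p q : Perm (Fin 3), p * p = 1 → q ^ 3 = 1 → q ≠ 1 →
      p * (q * p * q⁻¹) = q * p * q⁻¹ * p → p = 1) _ _ (P.sq i j) g3 g1 e

theorem cbb {l : L} (P : Ph b ψ Q) (su : ∀ l, ∃ x, Commute x b ∧ ψ x = l) (bQ : b ∈ Q) (sq : ∀ y ∈ Q, y * y ∈ zpowers b)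
    (pg : IsPGroup 2 Q) (B : LB (ψ c) l) : ∃ h T, CB b c h Q T := by
  obtain ⟨h, h3, h1, hb, rfl⟩ := H.lift3 P pg su B.h3 B.h1
  have c1 := ccn hb H.cb
  have d : ∀ {y}, y ∈ 𝐂[ψ c] → y = 1 ∨ y = ψ c ∨ y = cn (ψ h) (ψ c) ∨ y = ψ c * cn (ψ h) (ψ c) := fun e => B.cen _ (mC.1 e)
  have s1 := cn_sq B.zz (ψ h)
  have s2 := sq_mul B.zz s1 B.c1
  refine ⟨h, P.pre 𝐂[ψ c], ⟨pg, fun x e => (P.ker.1 e).1, fun w i => P.nrm i, bQ, H.nQ pg (P.nrm H.bg.symm)⟩,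
    ⟨h3, h1, H.bb, H.b1, hb.symm, pg_of fun x e => .of_sq' (.of_mem pg (P.mem (e.1.mul_left e.1) ?_)),
      norm_of fun x e => ⟨ccn hb e.1, mC.2 ?_⟩, fun x e => e.1⟩,
    fun x e => ⟨(P.ker.1 e).1, (P.ker.1 e).2 ▸ one_mem _⟩, fun y i j => ⟨i, mC.2 (P.com i H.cb j)⟩, sq, fun y e => ?_,
    fun y e w f => ?_, fun s i j e => ?_, fun y i j => P.mem (i.mul_left i) ?_, fun e => H.czz P bQ e su H.cc H.cb B.toLZ⟩
  · rw [P.mul e.1 e.1]
    rcases d e.2 with i | i | i | i <;> rw [i]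
    exacts [mul_one 1, B.zz, s1, s2]
  · rw [P.cn' hb e.1]
    rcases d e.2 with i | i | i | i <;> rw [i]
    · rw [cn_one]; exact .one_left _
    · exact B.c1.symm
    · rw [B.t]; exact (Commute.refl _).mul_left B.c1.symm
    · rw [cn_mul, B.t]; exact B.c1.symm.mul_left ((Commute.refl _).mul_left B.c1.symm)
  · refine (d e.2).imp (P.mem e.1) (Or.imp (fun i => P.mem (e.1.mul_left H.cb) ?_) (Or.imp
      (fun i => P.mem (e.1.mul_left c1) ?_) fun i => P.mem (e.1.mul_left (H.cb.mul_left c1)) ?_))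
    · rw [P.mul e.1 H.cb, i, B.zz]
    · rw [P.mul e.1 c1, i, P.cn' hb H.cb, s1]
    · rw [P.mul e.1 (H.cb.mul_left c1), P.mul H.cb c1, i, P.cn' hb H.cb, s2]
  · have m : ∀ {y}, Commute y b → ψ y = 1 ∨ ψ y = ψ c → y ∈ Q ∨ y * c ∈ Q := fun i => Or.imp (P.mem i)
      fun j => P.mem (i.mul_left H.cb) (by rw [P.mul i H.cb, j, B.zz])
    rcases or_assoc.2 (d e.2) with i | i
    · exact .inl (m e.1 i)
    rcases or_assoc.2 (d f.2) with j | j
    · exact .inr (.inl (m f.1 j))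
    refine .inr (.inr (m (e.1.mul_left f.1) ?_))
    rw [P.mul e.1 f.1]
    rcases i with i | i <;> rcases j with j | j <;> rw [i, j]
    · exact .inl s1
    · exact .inr (by rw [B.c1.eq, cancel2 s1])
    · exact .inr (by rw [mul_assoc, s1, mul_one])
    · exact .inl s2
  · refine B.nr (ψ s) ?_ (by rw [← P.cn' i hb, e, P.inv hb])
    rw [← P.cn' i H.cb]
    exact P.com (ccn i H.cb) H.cb j
  · obtain ⟨n, e⟩ := P.e2 (i.mul_left i) (j.mul j (.refl y))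
    exact eq1 e ((P.mul i i).symm ▸ B.two _) (Nat.Coprime.pow_left n (by norm_num))

theorem ccc {l m : L} (P : Ph b ψ (zpowers b)) (su : ∀ l, ∃ x, Commute x b ∧ ψ x = l) (C : LC (ψ z) l m) :
    ∃ h f k e, CC b z c h f k e := by
  have pg := (E2.of_sq H.bb).pg
  obtain ⟨h, h3, h1, hb, rfl⟩ := H.lift3 P pg su C.a3 C.a1
  obtain ⟨k, k3, k1, kb, rfl⟩ := H.lift3 P pg su C.b3 C.b1
  have m1 : ∀ {x}, Commute x b → ψ x = 1 → x = 1 ∨ x = b := fun i e => (zp2 H.bb).1 (P.mem i e)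
  have cm : ∀ {h}, h ^ 3 = 1 → Commute h b → (ψ z * ψ h) ^ 3 = 1 → Commute z (cn h z) := fun {h} h3 hb t => by
    have := m1 ((H.zb.mul_left hb).pow_left 3) (by rw [P.pow (H.zb.mul_left hb), P.mul H.zb hb, t])
    rw [cube_mul h3] at this
    exact this.elim (tri_comm H.zz (cn_sq H.zz _) (cn_sq (cn_sq H.zz _) _) (mul_one 1) (.one_left _))
      (tri_comm H.zz (cn_sq H.zz _) (cn_sq (cn_sq H.zz _) _) H.bb (ccn hb (ccn hb H.zb)).symm)
  have iv : ∀ {h e}, h ^ 3 = 1 → Commute h b → Commute e b → cn (ψ e) (ψ h) * ψ h = 1 → cn e h = h⁻¹ := fun {h e} h3 hb eb t => by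
    refine eq_inv_of_mul_eq_one_left ((m1 ((ccn eb hb).mul_left hb) (by rw [P.mul (ccn eb hb) hb, P.cn' eb hb, t])).resolve_right
      fun i => H.b1 ((E2.of_sq H.bb).eq1 ?_))
    have := cn_cube h3 e
    rwa [eq_mul_inv_of_mul_eq i, hb.symm.inv_right.mul_pow, inv_pow, h3, inv_one, mul_one] at this
  have fb := ccn hb H.zb
  have eb := ccn kb H.zb
  have fe := fb.mul_left eb
  refine ⟨h, _, k, _, H.czz P (mem_zpowers b) le_rfl su H.zz H.zb C.toLZ, h3, h1, hb, rfl, cm h3 hb C.t1, k3, k1, kb, rfl,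
    cm k3 kb C.t2, iv h3 hb eb (P.cn' kb H.zb ▸ C.i1), iv k3 kb fb (P.cn' hb H.zb ▸ C.i2), ?_, fun y i j => ?_⟩
  · refine (m1 ((fe.mul_left fe).mul_left H.zb) ?_).imp (fun e => ?_) fun e => ?_
    · rw [P.mul (fe.mul_left fe) H.zb, P.mul fe fe, P.mul fb eb, P.cn' hb H.zb, P.cn' kb H.zb, C.sq]
    · rw [eq_inv_of_mul_eq_one_left e, inv2 H.zz]
    · rw [eq_mul_inv_of_mul_eq e, inv2 H.zz, H.bz]
  · obtain ⟨w, i1, i2⟩ := C.cen _ (P.com i H.zb j)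
    have key : ∀ w, Commute w b → ψ y * (ψ w)⁻¹ = 1 ∨ ψ y * (ψ w)⁻¹ * ψ z = 1 → ∃ v, In4 b z v ∧ y = v * w := fun w l e => by
      have l' := i.mul_left l.inv_left
      rw [← P.inv l, ← P.mul i l.inv_left, ← P.mul l' H.zb] at e
      refine ⟨y * w⁻¹, e.elim (fun e => (m1 l' e).imp_right .inl) fun e => .inr (.inr ?_), by simp⟩
      simpa only [← eq_mul_inv_iff_mul_eq, inv2 H.zz, one_mul] using m1 (l'.mul_left H.zb) e
    rw [← P.cn' hb H.zb, ← P.cn' kb H.zb, ← P.mul fb eb, ← P.one] at i1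
    simp only [List.mem_cons, List.not_mem_nil, or_false] at i1
    rcases i1 with rfl | rfl | rfl | rfl
    · exact (key 1 (.one_left b) i2).imp fun _ e => ⟨e.1, .inl (e.2.trans (mul_one _))⟩
    · exact (key _ fb i2).imp fun _ e => ⟨e.1, .inr (.inl e.2)⟩
    · exact (key _ eb i2).imp fun _ e => ⟨e.1, .inr (.inr (.inl e.2))⟩
    · exact (key _ fe i2).imp fun _ e => ⟨e.1, .inr (.inr (.inr e.2))⟩

theorem tri : (∃ Q, CA b c g Q) ∨ (∃ h Q T, CB b c h Q T) ∨ ∃ h f k e, CC b z c h f k e := by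
  have su' : ∀ {L : Type} [Group L] {ψ : G → L} (w : L), (∀ l, ∃ x, Commute x b ∧ ψ x = l) →
      ∀ l, ∃ x, Commute x b ∧ cn w⁻¹ (ψ x) = l := fun w e l => (e (cn w l)).imp fun _ i => ⟨i.1, by rw [i.2, inv_cn_cn]⟩
  rcases cases0 H.bb H.b1 H.g3 H.g1 H.bg H.six with ⟨ψ, K, P, n, i, j⟩ | ⟨ψ, Q, P, su, i, j⟩ | ⟨ψ, P, su⟩
  · exact .inl ⟨_, H.ca P n i j⟩
  · have pg : IsPGroup 2 Q := pg_of fun x e => .of_sq' (.of_mem (E2.of_sq H.bb).pg (j x e))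
    obtain ⟨u, l, B⟩ := lb5
    obtain ⟨w, e⟩ := (B.cls _ (P.sq H.cb H.cc)).resolve_left fun e => H.nQ pg (P.nrm H.bg.symm) (P.mem H.cb e)
    obtain ⟨h, T, C⟩ := H.cbb (P.tw w⁻¹) (su' w su) i j pg (by rw [← e, inv_cn_cn]; exact B)
    exact .inr (.inl ⟨h, Q, T, C⟩)
  · obtain ⟨u, l, m, C⟩ := lc7
    obtain ⟨w, e⟩ := (C.cls _ (P.sq H.zb H.zz)).resolve_left fun e =>
      ((zp2 H.bb).1 (P.mem H.zb e)).elim H.z1 H.bz_ne.symm
    exact .inr (.inr (H.ccc (P.tw w⁻¹) (su' w su) (by rw [← e, inv_cn_cn]; exact C)))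

end Hy

end Cfsg.Lib.SD9
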