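import Cfsg.Agent.Lib.SD9.CaseC
import Cfsg.Agent.Lib.Loc3.E9
import Cfsg.Agent.Lib.Transfer.Criteria

/-! Construction of the data (helper27). -/

set_option autoImplicit false
set_option linter.unusedSectionVars false

namespace Cfsg.Lib.SD9

open Subgroup Cfsg.Lib.BG Cfsg.Lib.Transfer Cfsg.Lib.Loc3
open scoped Cfsg.Lib.Transfer

variable {G : Type*} [Group G] [Finite G] {M : Subgroup G} {a b n u v w x : G}

theorem inv_cyc (i : u ∈ zpowers x) (j : v ∈ zpowers x) (uu : u * u = 1) (u1 : u ≠ 1) (vv : v * v = 1) (v1 : v ≠ 1) : u = v := by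
  have o : ∀ {u : G}, u * u = 1 → u ≠ 1 → Nat.card (zpowers u) = 2 := fun {u} uu u1 =>
    (Nat.card_zpowers _).trans (orderOf_eq_prime ((sq _).trans uu) u1)
  exact ((zp2 vv).1 ((cyclic_eq_of_card inferInstance (zpowers_le.2 i) (zpowers_le.2 j) ((o uu u1).trans (o vv v1).symm)).le
    (mem_zpowers _))).resolve_left u1

theorem cn_zp (e : cn n u = u⁻¹) (m : w ∈ zpowers u) : cn n w = w⁻¹ := let ⟨l, i⟩ := m; i ▸ by rw [cn_zpow, e, inv_zpow]
theorem cn_zp' (e : cn n u = u) (m : w ∈ zpowers u) : cn n w = w := let ⟨l, i⟩ := m; i ▸ by rw [cn_zpow, e]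

/-- the eigenspaces -/
theorem eig (E : E9 M) (uM : u ∈ M) (vM : v ∈ M) (uv : u ∉ zpowers v) (v1 : v ≠ 1) (nu : cn n u = u⁻¹) (nv : cn n v = v)
    (m : x ∈ M) : (cn n x = x → x ∈ zpowers v) ∧ (cn n x = x⁻¹ → x ∈ zpowers u) := by
  obtain ⟨p, i, q, j, rfl⟩ := E.dec uM vM uv v1 m
  rw [cn_mul, cn_zp nu i, cn_zp' nv j, mul_left_inj, mul_inv_rev, E.comm (inv_mem (zpowers_le.2 vM j)) (inv_mem (zpowers_le.2 uM i)),
    mul_right_inj]
  exact ⟨fun e => by rwa [one3 (cube_zp (E.exp u uM) i) e.symm, one_mul],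
    fun e => by rwa [one3 (cube_zp (E.exp v vM) j) e, mul_one]⟩

theorem exists_hy (hG : pResidual 2 G = ⊤) (E : E9 M) (aN : a ∈ 𝐍(M)) (bN : b ∈ 𝐍(M)) (oa : orderOf a = 8) (ob : orderOf b = 2)
    (ba : b * a * b⁻¹ = a ^ 3) (pab : IsPGroup 2 (zpowers a ⊔ zpowers b : Subgroup G)) : ∃ r z c g k, Hy a r z b c g k := by
  have a8 : a ^ 8 = 1 := oa ▸ pow_orderOf_eq_one a
  have an : ∀ n, a ^ n = 1 → 8 ∣ n := fun n e => oa ▸ orderOf_dvd_of_pow_eq_one e
  have bb : b * b = 1 := by rw [← sq, ← ob, pow_orderOf_eq_one]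
  have b1 : b ≠ 1 := fun e => by simp [e] at ob
  have cM : ∀ {w}, E2 w → (∀ x ∈ M, cn w x = x) → w = 1 := fun {w} e i =>
    e.eq1 (E.exp w (E.cen.le (mem_cent.2 fun x m => (comm_of_cn (i x m)).symm)))
  have a2 : ∀ n, E2 (a ^ n) := fun n => ⟨3, by rw [← pow_mul, mul_comm, pow_mul]; exact a8.symm ▸ one_pow n⟩
  have zz : a ^ 4 * a ^ 4 = 1 := by rw [← pow_add, a8]
  have z1 : a ^ 4 ≠ 1 := fun e => absurd (an 4 e) (by norm_num)
  have sq2 : ∀ {v}, v ∈ M → v ≠ 1 → cn a v ∈ zpowers v → cn (a ^ 2) v = v := fun {v} m v1 e => by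
    rcases zp3 (E.exp v m) (norm_zp e) v1 with i | i <;> change cn a v = _ at i <;> rw [sq, mul_cn, i]
    exacts [i, by rw [cn_inv, i, inv_inv]]
  have zi : ∀ x ∈ M, cn (a ^ 4) x = x⁻¹ := by_contra fun f => by
    obtain ⟨u, uM, v, vM, uv, v1, nu, nv⟩ := E.exists_uv (pow_mem aN 4) (by rw [sq, zz]; exact one_mem _)
      (fun e => z1 (cM (a2 4) e)) f
    have c : ∀ x, cn (a ^ 4) (cn a x) = cn a (cn (a ^ 4) x) := fun x => by rw [← mul_cn, ← mul_cn, ← pow_succ, ← pow_succ']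
    have i := sq2 vM v1 ((eig E uM vM uv v1 nu nv (cn_mem aN vM)).1 ((c v).trans (congrArg _ nv)))
    have j := sq2 uM (fun e => uv (e ▸ one_mem _)) ((eig E uM vM uv v1 nu nv (cn_mem aN uM)).2
      ((c u).trans ((congrArg _ nu).trans (cn_inv _ _))))
    refine absurd (an 2 (cM (a2 2) fun x m => ?_)) (by norm_num)
    obtain ⟨p, i', q, j', rfl⟩ := E.dec uM vM uv v1 m
    rw [cn_mul, cn_zp' j i', cn_zp' i j']
  have bz : Commute b (a ^ 4) := comm_of_cn (by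
    rw [cn_pow, cn, ba, ← pow_mul, show 3 * 4 = 8 + 4 from rfl, pow_add, a8, one_mul])
  obtain ⟨u, uM, g, gM, ug, g1, bu, bg⟩ := E.exists_uv bN (by rw [sq, bb]; exact one_mem _)
    (fun e => b1 (cM (.of_sq bb) e)) fun e => by
      have := cM (.of_sq (sq_mul bb zz bz)) fun x m => by rw [mul_cn, zi x m, cn_inv, show cn b x = x⁻¹ from e x m, inv_inv]
      rw [eq_inv_of_mul_eq_one_left this, (((Commute.refl a).pow_left 4).inv_left).eq, mul_inv_cancel_right, pow_succ', eq_comm,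
        mul_eq_left] at ba
      exact absurd (an 2 ba) (by norm_num)
  have g3 := E.exp g gM
  have u3 := E.exp u uM
  have kM := cn_mem (pow_mem aN 2) gM
  have fr : ∀ w ∈ zpowers a, Commute w g → w = 1 := fun w m e => by_contra fun f => by
    obtain ⟨t, i, tt, t1, -⟩ := exists_inv (P := zpowers a ⊓ 𝐂[g]) (pgroup_of_le pab (inf_le_left.trans le_sup_left)) le_rfl
      (le_norm _) (ne_bot_of_mem ⟨m, mC.2 e⟩ f)
    rw [inv_cyc i.1 (pow_mem (mem_zpowers a) 4) tt t1 zz z1] at i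
    exact ne_inv3 g3 g1 ((cn_fix (mC.1 i.2)).symm.trans (zi g gM))
  have kg : cn (a ^ 2) g ∉ zpowers g := fun e => by
    rcases zp3 g3 (norm_zp e) g1 with i | i <;> change cn _ g = _ at i
    · exact absurd (an 2 (fr _ (pow_mem (mem_zpowers a) 2) (comm_of_cn i))) (by norm_num)
    · refine z1 (fr _ (pow_mem (mem_zpowers a) 4) (comm_of_cn ?_))
      rw [show 4 = 2 + 2 from rfl, pow_add, mul_cn, i, cn_inv, i, inv_inv]
  have cj : ∀ x ∈ M, x ≠ 1 → IsConj g x := fun x m x1 => by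
    let F : Option (zpowers a) → M := fun o => o.elim 1 fun w => ⟨cn w g, cn_mem (zpowers_le.2 aN w.2) gM⟩
    have inj : Function.Injective F := by
      rintro (_ | p) (_ | q) e
      · rfl
      · exact absurd (congrArg Subtype.val e).symm (cn_ne_one g1)
      · exact absurd (congrArg Subtype.val e) (cn_ne_one g1)
      · refine congrArg some (inv_mul_eq_one.1 (Subtype.ext (fr _ (p⁻¹ * q).2 (comm_of_cn ?_))))
        exact (mul_cn _ _ _).trans (cn_symm (congrArg Subtype.val e))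
    obtain ⟨_ | p, e⟩ := (inj.bijective_of_nat_card_le (by rw [E.card, Finite.card_option, Nat.card_zpowers, oa])).2 ⟨x, m⟩
    · exact absurd (congrArg Subtype.val e).symm x1
    · exact isConj_of (congrArg Subtype.val e)
  have cg : ∀ w, Commute w g → w ∈ M ∨ w * b ∈ M := fun w e => by
    have key : ∀ {w}, Commute w g → ∀ q ∈ zpowers g, cn w u = u * q → w ∈ M := fun {w} e q j i => by
      have e3 : w ^ 3 ∈ M := E.cen.le (mem_cent.2 fun x m => by
        obtain ⟨p, i', q', j', rfl⟩ := E.dec uM gM ug g1 m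
        have c := cn_zp' (cn_fix e) j
        refine (comm_of_cn ?_).symm
        rw [cn_mul, cn_zp' (cn_fix (e.pow_left 3)) j', cn_zp' _ i']
        rw [pow_three, mul_cn, mul_cn, i, cn_mul, i, c, cn_mul, cn_mul, i, c, mul_assoc, mul_assoc, ← pow_three,
          cube_zp g3 j, mul_one])
      refine zpowers_le.1 (E.le_of_p (fun ⟨_, l, rfl⟩ => ⟨2, Subtype.ext ?_⟩) (zpowers_le.2 (E.loc g gM g1 (mC.2 e))))
      change (w ^ l) ^ (3 * 3) = 1
      rw [← zpow_natCast, ← zpow_mul, mul_comm, zpow_mul, zpow_natCast, pow_mul, E.exp _ e3, one_zpow]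
    obtain ⟨p, i, q, j, f⟩ := E.dec uM gM ug g1 (cn_mem (E.loc g gM g1 (mC.2 e)) uM)
    rcases (OddChar.mem_zpowers_iff_of_cube u3).1 i with rfl | rfl | rfl
    · rw [one_mul, ← cn_zp' (cn_fix e) j, cn_inj] at f
      exact absurd (f ▸ j) ug
    · exact .inl (key e q j f.symm)
    · refine .inr (key (e.mul_left (comm_of_cn bg)) q⁻¹ (inv_mem j) ?_)
      rw [mul_cn, show cn b u = u⁻¹ from bu, cn_inv, ← f, mul_inv_rev, inv_inv,
        E.comm uM (inv_mem (zpowers_le.2 gM j))]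
  have : Fact (Nat.Prime 2) := ⟨Nat.prime_two⟩
  have n3 : ∀ {P : Subgroup G}, IsPGroup 2 P → ¬ 3 ∣ Nat.card P := fun p e => by
    obtain ⟨n, i⟩ := p.exists_card_eq
    exact absurd (Nat.Prime.dvd_of_dvd_pow Nat.prime_three (i ▸ e)) (by norm_num)
  refine ⟨a ^ 2, a ^ 4, _, g, _, hG, (sq a).symm, (pow_add a 2 2).symm, zz, z1, bb, ?_, rfl, g3, g1, comm_of_cn bg, zi g gM, rfl,
    E.comm gM kM, pab, fun h h3 h1 => ?_, fun w e => ?_, fun w e f => ?_, fun P R p q n P1 h m h1 => by_contra fun f => ?_,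
    fun P p i j => E.eq_bot (fun x m => ?_) (n3 p)⟩
  · have e : cn b (a ^ 2) = (a ^ 2)⁻¹ := by
      rw [cn_pow, cn, ba, eq_inv_iff_mul_eq_one, ← pow_mul, ← pow_add, a8]
    have : a * b = b * a ^ 3 := by rw [← ba, inv2 bb, mul_assoc, cancel2 bb]
    rw [cn, this, ← of_cn e]; group
  · obtain ⟨n, -, i⟩ := E.syl.exists_conj_le (pg3 h3) le_top
    exact (cj _ (i (conj_mem_conj.2 (mem_zpowers h))) (cn_ne_one h1)).trans (isConj_cn n h).symm
  · refine (cg w e).imp (E.exp w) fun m => ?_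
    obtain ⟨p, i, q, j, f⟩ := E.dec uM gM ug g1 m
    have pM := zpowers_le.2 uM i
    have p3 := E.exp p pM
    have bp := of_cn (cn_zp bu i)
    have qb : Commute q b := (comm_of_cn (cn_zp' bg j)).symm
    have qp : Commute q p := E.comm (zpowers_le.2 gM j) pM
    refine ⟨p⁻¹, E.comm (inv_mem pM) gM, ?_⟩
    rw [← mul_inv_eq_iff_eq_mul.2 f, inv2 bb, ← qp.eq, mul_assoc, (qp.mul_right qb).mul_pow, cube_zp g3 j, one_mul, pow_three,
      mul_assoc p b, ← mul_assoc b, ← mul_assoc b p, bp, cn, inv_inv, mul_assoc p⁻¹ b p, bp, mul_assoc p⁻¹, mul_assoc p⁻¹,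
      mul_inv_cancel_left, bb, one_mul, ← mul_assoc, ← mul_inv_rev, inv_eq_of_mul_eq_one_right ((pow_three' p).symm.trans p3)]
  · exact (cg w e).imp (fun m => (eig E uM gM ug g1 bu bg m).1 (cn_fix f.symm))
      fun m => (eig E uM gM ug g1 bu bg m).1 (cn_fix ((f.mul_left (.refl b)).symm))
  · obtain ⟨y, i, j⟩ := SetLike.not_le_iff_exists.1 f
    obtain ⟨l, -, e⟩ := E.syl.exists_conj_le q le_top
    refine P1 (conj_eq_bot_iff.1 (E.eq_bot (K := l ⋆ P) (fun x m' => ?_) (n3 ((pgroup_conj l).2 p))))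
    obtain ⟨s, i', t, j', rfl⟩ := E.dec (e (conj_mem_conj.2 i)) (e (conj_mem_conj.2 m))
      (by rwa [← conj_zpowers, conj_mem_conj]) (cn_ne_one h1) m'
    have k : ∀ {y}, y ∈ R → zpowers (l * y * l⁻¹) ≤ 𝐍(l ⋆ P) := fun m =>
      zpowers_le.2 (conj_normalizer l P ▸ conj_mem_conj.2 (n m))
    exact mul_mem (k i i') (k m j')
  · obtain ⟨s, i', t, j', rfl⟩ := E.dec kM gM kg g1 m
    exact mul_mem (zpowers_le.2 j i') (zpowers_le.2 i j')

theorem Hy.six' {r z c g k : G} (H : Hy a r z b c g k) : orderOf (g * b) = 6 ∧ 𝐂[g * b] = zpowers (g * b) := by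
  have b3 : (g * b) ^ 3 = b := by rw [H.bg.symm.mul_pow, H.g3, one_mul, pow_three, H.bb, mul_one]
  have g4 : (g * b) ^ 4 = g := by rw [pow_succ', b3, mul_assoc, H.bb, mul_one]
  refine ⟨?_, le_antisymm (fun w m => ?_) (zpowers_le.2 (self_mem_cent1 _))⟩
  · rw [H.bg.symm.orderOf_mul_eq_mul_orderOf_of_coprime] <;>
      rw [orderOf_eq_prime H.g3 H.g1, orderOf_eq_prime ((sq b).trans H.bb) H.b1]
    norm_num
  · have i : zpowers g ≤ zpowers (g * b) := zpowers_le.2 ⟨(4 : ℕ), (zpow_natCast _ _).trans g4⟩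
    exact (H.six w (g4 ▸ (mC.1 m).pow_right 4) (b3 ▸ (mC.1 m).pow_right 3)).elim (fun e => i e)
      fun e => (mul_mem_cancel_right (⟨(3 : ℕ), (zpow_natCast _ _).trans b3⟩ : b ∈ zpowers (g * b))).1 (i e)

end Cfsg.Lib.SD9
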