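import Cfsg.Agent.Lib.SD9.Cases
import Cfsg.Agent.Lib.SD9.ModA
import Cfsg.Agent.Lib.SD9.ModB
import Cfsg.Agent.Lib.Loc3.Gen

/-! Consequences of the models (helper27). -/

set_option autoImplicit false
set_option linter.unusedSectionVars false

namespace Cfsg.Lib.SD9

open Subgroup Cfsg.Lib.BG Cfsg.Lib.Transfer Cfsg.Lib.Calc Cfsg.Lib.Grp Cfsg.Lib.T2 Cfsg.Lib.T3
open scoped Cfsg.Lib.Transfer

universe u

variable {G : Type u} [Group G]

/-- the model is a `2`-group whose centre embeds -/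
theorem gf_cen {P : PM} [NeZero P.n] {γ : ℕ → G} (ok : P.OK) (h0 : γ 0 = 1) {n : ℕ} {rels : List W}
    (hT : TB.{u} rels (P.ws 0) (2 ^ n)) (hr : ∀ t ∈ rels, t.ev γ = 1) (l : List W) (hl : ∀ t ∈ l, t.ev γ ≠ 1)
    (h : ∀ e ∈ P.K 0, (∀ t ∈ P.ws 0, e * t.ev P.gam = t.ev P.gam * e) → e = 1 ∨ ∃ t ∈ l, e = t.ev P.gam)
    (e : band (band (P.relsB rels) (Nat.beq (Mathieu.chSize (P.Ls 0)) (2 ^ n))) (l.all (W.overW (P.ws 0))) = true := by
      decide +kernel) : Gf P γ 0 [] := by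
  rw [band_eq_true, band_eq_true, beq_iff, ← ok.card] at e
  have q := snd_inj (hT _ (pr γ P.gam) (Prod.ext h0 ok.zero) (rels_prod hr (ok.rels e.1.1))) (fun _ => exists_fst) e.1.2.ge
  refine ⟨ok, h0, fun p hp => ⟨fun a => by_contra fun b => ?_, q p hp⟩, nil_all⟩
  let N := (Dg P γ 0).comap (MonoidHom.inr G _)
  obtain ⟨x, m, -, x1, c⟩ := exists_inv (P := P.K 0) (Q := N) (.of_card e.1.2) (fun x m => snd_mem m)
    (fun l hl => norm_of fun x m => by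
      obtain ⟨y, m'⟩ := exists_fst (γ := γ) hl
      change (1, cn l x) ∈ Dg P γ 0
      convert mul_mem (mul_mem m' m) (inv_mem m') using 1
      exact Prod.ext (by simp) rfl) (ne_bot_of_mem (A := N) (x := p.2) (by change (1, p.2) ∈ Dg P γ 0; rw [← a]; exact hp) b)
  obtain ⟨t, i, rfl⟩ := (h x (snd_mem m) fun t i => c _ (mem_genW _ i)).resolve_left x1
  exact hl t i (by simpa using q _ (mul_mem (ov_mem (Prod.ext h0 ok.zero) (fun _ => mem_pair)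
    (List.all_eq_true.1 e.2 t i)) (inv_mem m)) (by simp))

variable [Finite G] {a r z d q f b x y e p c g : G} {S S0 : Subgroup G}

theorem rel2 {n : ℕ} (c0 : Nat.card S = n * 2) (c1 : Nat.card S0 = n) (le : S0 ≤ S) : S0.relIndex S = 2 :=
  Nat.eq_of_mul_eq_mul_left (c1 ▸ Nat.card_pos) (by rw [← c0, ← c1, BG.card_mul_relIndex le])

theorem end128 (hG : pResidual 2 G = ⊤) (bb : b * b = 1) (c0 : Nat.card S = 128) (c1 : Nat.card S0 = 64) (le : S0 ≤ S)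
    (bS : b ∈ S) (i : ∀ u ∈ S0, u * u = 1 → ¬ IsConj b u) (j : ∀ u ∈ S, u * u = 1 → u ∈ S0 ∨ ∃ l ∈ S, l * b = u * l ∧ True)
    (k : ∀ P : Subgroup G, IsPGroup 2 P → S ≤ P → ∀ n ∈ P, n ∈ 𝐍(S) → Commute n b → n ∈ S) : False :=
  have i' : ∀ u ∈ S0, ¬ IsConj b u := fun u m f => i u m (let ⟨p, e⟩ := ex_cn f; e ▸ cn_sq bb p) f
  endgame hG bb (.of_card (n := 7) c0) (rel2 (n := 64) c0 c1 le) i' (fun n m => (j _ (cn_mem m bS) (cn_sq bb n)).elim
    (fun f => absurd (isConj_cn n b) (i' _ f)) fun ⟨l, j, f, _⟩ => ⟨l, j, cn_of f⟩) k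

/-- the data of the models of type `8² : 2` -/
structure M8 (a r z d q f b : G) : Prop extends CZ b where
  res : pResidual 2 G = ⊤
  aa : a * a = r
  rr : r * r = z
  zz : z * z = 1
  dd : d * d = q
  qq : q * q = f
  ff : f * f = 1
  bb : b * b = 1
  ab : cn a b = r⁻¹ * b
  db : cn d b = q⁻¹ * b
  z1 : z ≠ 1
  f1 : f ≠ 1
  zf1 : z * f ≠ 1
  b1 : b ≠ 1
  nzf : ¬ IsConj b (z * f)
  cen : ∀ S : Subgroup G, b ∈ S → z ∈ S → f ∈ S → ∀ n, Commute n b → E2 n → E2 (n * z) → n ∈ S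

theorem M8.fin (M : M8 a r z d q f b) (c0 : Nat.card S = 128) (c1 : Nat.card S0 = 64) (le : S0 ≤ S)
    (bS : b ∈ S) (zS : z ∈ S) (fS : f ∈ S) (i : ∀ u ∈ S0, u * u = 1 → u = 1 ∨ u = z ∨ u = f ∨ u = z * f ∨ ∃ s ∈ S0, R4 u z f s)
    (j : ∀ u ∈ S, u * u = 1 → u ∈ S0 ∨ ∃ l ∈ S, l * b = u * l ∧ True) : False := by
  refine end128 M.res M.bb c0 c1 le bS (fun u m uu => ?_) j fun P pg l n m _ k =>
    M.cen S bS zS fS n k (.of_mem pg m) (.of_mem pg (mul_mem m (l zS)))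
  rcases i u m uu with rfl | rfl | rfl | rfl | ⟨s, -, e⟩
  exacts [fun e => M.b1 (isConj_one_left.1 e), M.rr ▸ M.nB2 r, M.qq ▸ M.nB2 q, M.nzf, M.nB e]

theorem M8.modC (M : M8 a r z d q f b) (ad : a * d = d * a) : False := by
  have g : Gf sdC (fun i => [1, a, r, z, d, q, f, b].getD i 1) 0 [] := gf_cen (n := 7) sdC_ok rfl sdCT_tb (by
      simp only [sdCR, List.forall_mem_cons, List.not_mem_nil, false_imp_iff, implies_true, and_true]
      exact ⟨mul_inv_eq_one.2 M.aa, mul_inv_eq_one.2 M.rr, M.zz, mul_inv_eq_one.2 M.dd, mul_inv_eq_one.2 M.qq, M.ff, M.bb,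
        mul_inv_eq_one.2 M.ab, mul_inv_eq_one.2 M.db, mul_inv_eq_one.2 ad⟩) [.l 3, .l 6, .mul (.l 3) (.l 6)]
    (List.forall_mem_cons.2 ⟨M.z1, List.forall_mem_cons.2 ⟨M.f1, List.forall_mem_singleton.2 M.zf1⟩⟩) fun e m h => by
      simp only [List.mem_cons, List.not_mem_nil, or_false, exists_eq_or_imp, exists_eq_left]
      exact sdC_cen (Loc3.gf_self sdC_ok 0) (by decide +kernel) e m (h (.l 1) (by repeat constructor)) (h (.l 4) (by repeat constructor)) (h (.l 7) (by repeat constructor))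
  exact M.fin (g.card 0) (g.card 1) g.le (g.mem (a := ⟨rfl⟩) (s := .l 7)) (g.mem (a := ⟨rfl⟩) (s := .l 3)) (g.mem (a := ⟨rfl⟩) (s := .l 6)) (sdC_i g) (sdC_ii g)

theorem M8.modD (M : M8 a r z d q f b) (rq : r * q = q * r) (ad : a * b * (d * b) = d * b * (a * b)) (aq : cn a q = q * z)
    (dr : cn d r = r * f) (af : a * f = f * a) (dz : d * z = z * d) : False := by
  have g : Gf sdD (fun i => [1, a, r, z, d, q, f, b].getD i 1) 0 [] := gf_cen (n := 7) sdD_ok rfl sdDT_tb (by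
      simp only [sdDR, List.forall_mem_cons, List.not_mem_nil, false_imp_iff, implies_true, and_true]
      exact ⟨mul_inv_eq_one.2 M.aa, mul_inv_eq_one.2 M.rr, M.zz, mul_inv_eq_one.2 M.dd, mul_inv_eq_one.2 M.qq, M.ff, M.bb,
        mul_inv_eq_one.2 M.ab, mul_inv_eq_one.2 M.db, mul_inv_eq_one.2 rq, mul_inv_eq_one.2 ad, mul_inv_eq_one.2 aq,
        mul_inv_eq_one.2 dr, mul_inv_eq_one.2 af, mul_inv_eq_one.2 dz⟩) [.l 3, .l 6, .mul (.l 3) (.l 6)]
    (List.forall_mem_cons.2 ⟨M.z1, List.forall_mem_cons.2 ⟨M.f1, List.forall_mem_singleton.2 M.zf1⟩⟩) fun e m h => by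
      simp only [List.mem_cons, List.not_mem_nil, or_false, exists_eq_or_imp, exists_eq_left]
      exact sdD_cen (Loc3.gf_self sdD_ok 0) (by decide +kernel) e m (h (.l 1) (by repeat constructor)) (h (.l 4) (by repeat constructor)) (h (.l 7) (by repeat constructor))
  exact M.fin (g.card 0) (g.card 1) g.le (g.mem (a := ⟨rfl⟩) (s := .l 7)) (g.mem (a := ⟨rfl⟩) (s := .l 3)) (g.mem (a := ⟨rfl⟩) (s := .l 6)) (sdD_i g) (sdD_ii g)

theorem fix_z {n : G} (zS : z ∈ S) (z1 : z ≠ 1) (c : ∀ t ∈ S, t * z = z * t)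
    (e : ∀ w ∈ S, (∀ t ∈ S, w * t = t * w) → w = 1 ∨ w = z) (m : n ∈ 𝐍(S)) : Commute n z :=
  comm_of_cn ((e _ (cn_mem m zS) fun t i => by
    simpa only [cn_inv_cn] using (cn_comm (c _ (cn_mem (inv_mem m) i)) n).symm.eq).resolve_left (cn_ne_one z1))

/-- the data of the models with centre of order two -/
structure M7 (b y z f e p q : G) : Prop extends CZ b where
  res : pResidual 2 G = ⊤
  bb : b * b = 1
  yy : y * y = 1
  zz : z * z = 1
  ff : f * f = 1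
  ee : e * e = 1
  pp : p * p = 1
  qq : q * q = 1
  zb : z * b = b * z
  zy : z * y = y * z
  zf : z * f = f * z
  ze : z * e = e * z
  zp : z * p = p * z
  zq : z * q = q * z
  bf : b * f = f * b
  be : b * e = e * b
  yb : cn y b = b * z
  yf : y * f = f * y
  ye : y * e = e * y
  yp : y * p = p * y
  yq : y * q = q * y
  ef : cn e f = f * z
  pf : p * f = f * p
  qe : q * e = e * q
  pb : cn p b = b * f
  qb : cn q b = b * e
  ep : cn e p = y * p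
  fq : cn f q = y * q
  z1 : z ≠ 1
  b1 : b ≠ 1
  nz : ¬ IsConj b z
  cen : ∀ S : Subgroup G, b ∈ S → z ∈ S → f ∈ S → e ∈ S → ∀ n, Commute n b → Commute n z → n ∈ S

theorem M7.fin (M : M7 b y z f e p q) (c0 : Nat.card S = 128) (c1 : Nat.card S0 = 64) (le : S0 ≤ S)
    (m : ∀ t ∈ [b, y, z, f, e, p, q], t ∈ S) (c : ∀ t ∈ S, t * z = z * t)
    (k : ∀ w ∈ S, w * b = b * w → w * y = y * w → w * f = f * w → w * e = e * w → w * p = p * w → w * q = q * w → w = 1 ∨ w = z)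
    (i : ∀ u ∈ S0, u * u = 1 → u = 1 ∨ u = z ∨ (∃ s ∈ S0, R4 u z y s) ∨ ∃ s ∈ S0, R4 u z f s)
    (j : ∀ u ∈ S, u * u = 1 → u ∈ S0 ∨ ∃ l ∈ S, l * b = u * l ∧ True) : False := by
  simp only [List.forall_mem_cons] at m
  obtain ⟨m1, m2, m3, m4, m5, m6, m7, -⟩ := m
  refine end128 M.res M.bb c0 c1 le m1 (fun u m uu => ?_) j fun P pg l n m o nb => M.cen S m1 m3 m4 m5 n nb
    (fix_z m3 M.z1 c (fun w i h => k w i (h _ m1) (h _ m2) (h _ m4) (h _ m5) (h _ m6) (h _ m7)) o)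
  rcases i u m uu with rfl | rfl | ⟨s, -, e⟩ | ⟨s, -, e⟩
  exacts [fun e => M.b1 (isConj_one_left.1 e), M.nz, M.nB e, M.nB e]

theorem M7.modE (M : M7 b y z f e p q) (pq : p * q * (p * q) = y) : False := by
  have g : Gf sdE (fun i => [1, b, y, z, f, e, p, q].getD i 1) 0 [] := gf_cen (n := 7) sdE_ok rfl sdET_tb (by
      simp only [sdER, List.forall_mem_cons, List.not_mem_nil, false_imp_iff, implies_true, and_true]
      exact ⟨M.bb, M.yy, M.zz, M.ff, M.ee, M.pp, M.qq, mul_inv_eq_one.2 M.zb, mul_inv_eq_one.2 M.zy, mul_inv_eq_one.2 M.zf,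
        mul_inv_eq_one.2 M.ze, mul_inv_eq_one.2 M.zp, mul_inv_eq_one.2 M.zq, mul_inv_eq_one.2 M.bf, mul_inv_eq_one.2 M.be,
        mul_inv_eq_one.2 M.yb, mul_inv_eq_one.2 M.yf, mul_inv_eq_one.2 M.ye, mul_inv_eq_one.2 M.yp, mul_inv_eq_one.2 M.yq,
        mul_inv_eq_one.2 M.ef, mul_inv_eq_one.2 M.pf, mul_inv_eq_one.2 M.qe, mul_inv_eq_one.2 M.pb, mul_inv_eq_one.2 M.qb,
        mul_inv_eq_one.2 M.ep, mul_inv_eq_one.2 M.fq, mul_inv_eq_one.2 pq⟩) [.l 3]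
    (List.forall_mem_singleton.2 M.z1) fun e m h => by
      simp only [List.mem_cons, List.not_mem_nil, or_false, exists_eq_left]
      exact sdE_cen (Loc3.gf_self sdE_ok 0) (by decide +kernel) e m (h (.l 1) (by repeat constructor)) (h (.l 2) (by repeat constructor))
          (h (.l 4) (by repeat constructor)) (h (.l 5) (by repeat constructor)) (h (.l 6) (by repeat constructor)) (h (.l 7) (by repeat constructor))
  exact M.fin (g.card 0) (g.card 1) g.le (List.forall_mem_map.2 (g.mems (l := sdE.ws 0))) (fun t m => g.comm (a := ⟨rfl⟩) (s := .l 3) m)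
    (sdE_cen g) (sdE_i g) (sdE_ii g)

theorem M7.modF (M : M7 b y z f e p q) (pq : p * q * (p * q) = y * z) : False := by
  have g : Gf sdF (fun i => [1, b, y, z, f, e, p, q].getD i 1) 0 [] := gf_cen (n := 7) sdF_ok rfl sdFT_tb (by
      simp only [sdFR, List.forall_mem_cons, List.not_mem_nil, false_imp_iff, implies_true, and_true]
      exact ⟨M.bb, M.yy, M.zz, M.ff, M.ee, M.pp, M.qq, mul_inv_eq_one.2 M.zb, mul_inv_eq_one.2 M.zy, mul_inv_eq_one.2 M.zf,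
        mul_inv_eq_one.2 M.ze, mul_inv_eq_one.2 M.zp, mul_inv_eq_one.2 M.zq, mul_inv_eq_one.2 M.bf, mul_inv_eq_one.2 M.be,
        mul_inv_eq_one.2 M.yb, mul_inv_eq_one.2 M.yf, mul_inv_eq_one.2 M.ye, mul_inv_eq_one.2 M.yp, mul_inv_eq_one.2 M.yq,
        mul_inv_eq_one.2 M.ef, mul_inv_eq_one.2 M.pf, mul_inv_eq_one.2 M.qe, mul_inv_eq_one.2 M.pb, mul_inv_eq_one.2 M.qb,
        mul_inv_eq_one.2 M.ep, mul_inv_eq_one.2 M.fq, mul_inv_eq_one.2 pq⟩) [.l 3]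
    (List.forall_mem_singleton.2 M.z1) fun e m h => by
      simp only [List.mem_cons, List.not_mem_nil, or_false, exists_eq_left]
      exact sdF_cen (Loc3.gf_self sdF_ok 0) (by decide +kernel) e m (h (.l 1) (by repeat constructor)) (h (.l 2) (by repeat constructor))
          (h (.l 4) (by repeat constructor)) (h (.l 5) (by repeat constructor)) (h (.l 6) (by repeat constructor)) (h (.l 7) (by repeat constructor))
  exact M.fin (g.card 0) (g.card 1) g.le (List.forall_mem_map.2 (g.mems (l := sdF.ws 0))) (fun t m => g.comm (a := ⟨rfl⟩) (s := .l 3) m)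
    (sdF_cen g) (sdF_i g) (sdF_ii g)

theorem modA (hG : pResidual 2 G = ⊤) (aa : a * a = r) (rr : r * r = z) (zz : z * z = 1) (bb : b * b = 1)
    (ab : cn a b = r⁻¹ * b) (xx : x * x = 1) (xb : Commute x b) (ax : cn a x = x * z) (z1 : z ≠ 1) (b1 : b ≠ 1)
    (nz : ¬ IsConj b z) (nbx : ¬ IsConj b (b * x)) (Bx : IsConj b x) (bx : b ≠ x) (bxz : b ≠ x * z)
    (cen : ∀ S : Subgroup G, b ∈ S → z ∈ S → x ∈ S → ∀ n, Commute n b → Commute n z → E2 n → n ∈ S) : False := by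
  have g : Gf sdA (fun i => [1, a, r, z, b, x].getD i 1) 0 [] := gf_cen (n := 5) sdA_ok rfl sdAT_tb (by
      simp only [sdAR, List.forall_mem_cons, List.not_mem_nil, false_imp_iff, implies_true, and_true]
      exact ⟨mul_inv_eq_one.2 aa, mul_inv_eq_one.2 rr, zz, bb, mul_inv_eq_one.2 ab, xx, mul_inv_eq_one.2 xb,
        mul_inv_eq_one.2 ax⟩) [.l 3] (List.forall_mem_singleton.2 z1) fun e m h => by
      simp only [List.mem_cons, List.not_mem_nil, or_false, exists_eq_left]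
      exact sdA_cen (Loc3.gf_self sdA_ok 0) (by decide +kernel) e m (h (.l 1) (by repeat constructor)) (h (.l 4) (by repeat constructor)) (h (.l 5) (by repeat constructor))
  obtain ⟨S, S0, c0, c1, le, aS, zS, bS, xS, zc, e1, e2, e3, e4, e5⟩ : ∃ S S0 : Subgroup G, Nat.card S = 32 ∧ Nat.card S0 = 16 ∧
      S0 ≤ S ∧ a ∈ S ∧ z ∈ S ∧ b ∈ S ∧ x ∈ S ∧ (∀ t ∈ S, t * z = z * t) ∧
      (∀ e ∈ S, e * a = a * e → e * b = b * e → e * x = x * e → e = 1 ∨ e = z) ∧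
      (∀ u ∈ S0, u * u = 1 → u = 1 ∨ u = z ∨ ∃ l ∈ S, l * (b * x) = u * l ∧ True) ∧
      (∀ w ∈ S, cn w x = x ∨ cn w x = x * z) ∧
      (∀ u ∈ S, u * u = 1 → cn a u = u ∨ cn a u = u * z → cn b u = u ∨ cn b u = u * z → u = 1 ∨ u = z ∨ u = x ∨ u = x * z) ∧
      ∀ u ∈ S, u * x = x * u → u * u = 1 → u = 1 ∨ u = z ∨ u = x ∨ u = x * z ∨ (∃ l ∈ S, l * b = u * l ∧ True) ∨
        ∃ l ∈ S, l * (b * x) = u * l ∧ True :=
    ⟨_, _, g.card 0, g.card 1, g.le, g.mem (a := ⟨rfl⟩) (s := .l 1), g.mem (a := ⟨rfl⟩) (s := .l 3), g.mem (a := ⟨rfl⟩) (s := .l 4), g.mem (a := ⟨rfl⟩) (s := .l 5),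
      fun t m => g.comm (a := ⟨rfl⟩) (s := .l 3) m, sdA_cen g, sdA_i g, sdA_x g, sdA_x2 g, sdA_b g⟩
  have fz : ∀ {n}, n ∈ 𝐍(S) → Commute n z := fix_z zS z1 zc fun w i h => e1 w i (h _ aS) (h _ bS) (h _ xS)
  have n1 : ¬ IsConj b 1 := fun e => b1 (isConj_one_left.1 e)
  have nc : ∀ {u l}, l * (b * x) = u * l → ¬ IsConj b u := fun e f => nbx (f.trans (isConj_of (cn_of e)).symm)
  have key : ∀ {n}, n ∈ 𝐍(S) → cn n x = x ∨ cn n x = x * z := fun {n} m => by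
    have : ∀ w ∈ S, cn w (cn n x) = cn n x ∨ cn w (cn n x) = cn n x * z := fun w i => by
      rw [← cn_inv_cn n w, cn_cn, cn_inj, ← cn_fix (fz m), ← cn_mul, cn_inj]
      exact e3 _ (cn_mem (inv_mem m) i)
    have B := Bx.trans (isConj_cn n x)
    exact ((e4 _ (cn_mem m xS) (cn_sq xx n) (this a aS) (this b bS)).resolve_left fun e => n1 (e ▸ B)).resolve_left
      fun e => nz (e ▸ B)
  refine endgame hG bb (.of_card (n := 5) c0) (rel2 (n := 16) c0 c1 le) (fun u m f => ?_) (fun n m => ?_)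
    fun P pg l n m o nb => cen S bS zS xS n nb (fz o) (.of_mem pg m)
  · rcases e2 u m (let ⟨p, e⟩ := ex_cn f; e ▸ cn_sq bb p) with rfl | rfl | ⟨l, -, e, -⟩
    exacts [n1 f, nz f, nc e f]
  · have k := key (inv_mem m)
    have B := isConj_cn n b
    have cx : Commute (cn n⁻¹ x) b := k.elim (fun e => e.symm ▸ xb) fun e => e.symm ▸ xb.mul_left (zc b bS).symm
    rcases e5 _ (cn_mem m bS) (by simpa only [cn_inv_cn] using (cn_comm cx n).symm.eq) (cn_sq bb n) with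
      e | e | e | e | ⟨l, i, e, -⟩ | ⟨l, -, e, -⟩
    · exact absurd (e ▸ B) n1
    · exact absurd (e ▸ B) nz
    · rw [cn_symm e] at k; exact (k.elim bx bxz).elim
    · have e := cn_symm e
      rw [cn_mul, cn_fix (fz (inv_mem m))] at e
      rcases k with k | k <;> rw [k] at e
      · exact absurd e.symm bxz
      · exact absurd (by rw [← e, mul_assoc, zz, mul_one]) bx
    · exact ⟨l, i, cn_of e⟩
    · exact absurd B (nc e)

/-- the model `2^{1+4}.S₃` -/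
structure MB (b c g x y v : G) (P T : Subgroup G) : Prop where
  le : ∀ Q : Subgroup G, b ∈ Q → x ∈ Q → y ∈ Q → g ∈ 𝐍(Q) → P ≤ Q
  bP : b ∈ P
  xP : x ∈ P
  yP : y ∈ P
  vP : v ∈ P
  cP : c ∈ 𝐍(P)
  PT : P ≤ T
  cT : c ∈ T
  pg : IsPGroup 2 T
  Tb : ∀ t ∈ T, t * b = b * t
  vv : v * v = 1
  vx : v * x = x * v
  v1 : v ≠ 1
  yx : cn (cn g (cn g y)) x = x * b
  h1 : ∀ s ∈ P, cn c s = s⁻¹ → ∃ p ∈ P, p⁻¹ * cn c p = s ∨ p⁻¹ * cn c p = s * b
  cl : ∀ u ∈ T, u * u = 1 → u = 1 ∨ IsConj b u ∨ IsConj c u ∨ IsConj x u ∨ ∃ l, Commute l b ∧ cn l v = u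
  zt : ∀ w ∈ T, (∀ t ∈ T, w * t = t * w) → w = 1 ∨ w = b
  X : ∀ u ∈ P, u * x = x * u → u * u = 1 → u = 1 ∨ u = b ∨ IsConj x u ∨ u = v ∨ u = v * b ∨ u = v * x ∨ u = v * (x * b)
  cj : IsConj v (v * b) ∧ IsConj v (v * x) ∧ IsConj v (v * (x * b))

theorem modB (bb : b * b = 1) (cc : c * c = 1) (g3 : g ^ 3 = 1) (xx : x * x = 1) (cb : Commute c b) (bg : Commute b g)
    (xb : Commute x b) (yb : Commute y b) (cg : cn c g = g⁻¹) (xc : Commute x c) (tx : x * cn g x * cn g (cn g x) = b)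
    (cy : cn c y = y * b) (yy : y * y = b) (xy : Commute x y) (x1 : cn (cn g x) y = y * b) (ty : y * cn g y * cn g (cn g y) = 1)
    (b1 : b ≠ 1) : ∃ v P T, MB b c g x y v P T := by
  have k : Gf sdB (fun i => [1, b, c, g, x, y, x * y * cn g x].getD i 1) 0 [] := Loc3.gf_of_soc sdB_ok rfl sdBT_tb (by
      simp only [sdBR, List.forall_mem_cons, List.not_mem_nil, false_imp_iff, implies_true, and_true]
      exact ⟨bb, cc, g3, xx, mul_inv_eq_one.2 cb, mul_inv_eq_one.2 bg, mul_inv_eq_one.2 xb, mul_inv_eq_one.2 yb,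
        mul_inv_eq_one.2 cg, mul_inv_eq_one.2 xc, mul_inv_eq_one.2 tx, mul_inv_eq_one.2 cy, mul_inv_eq_one.2 yy,
        mul_inv_eq_one.2 xy, mul_inv_eq_one.2 x1, ty, mul_inv_cancel _⟩) (s := .l 1) (by repeat constructor) b1 sdB_soc
  have i : ∀ {s u : G} {K : Subgroup G}, (∃ l ∈ K, l * s = u * l ∧ True) → IsConj s u := fun ⟨_, _, e, _⟩ => isConj_of (cn_of e)
  refine ⟨x * y * cn g x, _, _, fun Q i j l n => genW_le.2 ?_, k.mem (j := 1) (a := ⟨rfl⟩) (s := .l 1), k.mem (a := ⟨rfl⟩) (s := .l 4), k.mem (a := ⟨rfl⟩) (s := .l 5),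
    k.mem (a := ⟨rfl⟩) (s := .l 6), k.nrm 1 (a := ⟨rfl⟩) (s := .l 2), k.le (j := 2), k.mem (a := ⟨rfl⟩) (s := .l 2), .of_card (n := 6) (k.card 2),
    fun t m => k.comm (a := ⟨rfl⟩) (s := .l 1) m, k.eq (a := ⟨rfl⟩) (s := .mul (.l 6) (.l 6)) (b := ⟨rfl⟩) (t := .l 0), k.eq (a := ⟨rfl⟩) (s := .mul (.l 6) (.l 4)) (b := ⟨rfl⟩) (t := .mul (.l 4) (.l 6)),
    k.ne (a := ⟨rfl⟩) (s := .l 6) (b := ⟨rfl⟩) (t := .l 0), k.eq (a := ⟨rfl⟩) (s := cj (cj (.l 3) (cj (.l 3) (.l 5))) (.l 4)) (b := ⟨rfl⟩) (t := .mul (.l 4) (.l 1)), sdB_h1 k,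
    fun u m e => (sdB_cl k (by decide +kernel) u m e).imp_right (Or.imp i (Or.imp i (Or.imp i fun ⟨l, m, e, _⟩ => ⟨l, k.comm (a := ⟨rfl⟩) (s := .l 1) m, cn_of e⟩))),
    fun w m e => sdB_zt k (by decide +kernel) w m (e _ (k.mem (a := ⟨rfl⟩) (s := .l 2))) (e _ (k.mem (a := ⟨rfl⟩) (s := .l 4))) (e _ (k.mem (a := ⟨rfl⟩) (s := .l 5)))
      (e _ (k.mem (a := ⟨rfl⟩) (s := cj (.l 3) (.l 4)))) (e _ (k.mem (a := ⟨rfl⟩) (s := cj (.l 3) (.l 5)))),
    fun u m e f => (sdB_X k (by decide +kernel) u m e f).imp_right (Or.imp_right (Or.imp_left i)), (sdB_cj k).imp i (And.imp i i)⟩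
  exact List.forall_mem_cons.2 ⟨i, List.forall_mem_cons.2 ⟨j, List.forall_mem_cons.2 ⟨l, List.forall_mem_cons.2
    ⟨cn_mem n j, List.forall_mem_singleton.2 (cn_mem n l)⟩⟩⟩⟩

end Cfsg.Lib.SD9
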