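import Cfsg.Agent.Lib.SD9.Q1
import Cfsg.Agent.Lib.PSL2.Structure
import Cfsg.Agent.S3331

/-! The three possibilities for the centralizer of the involution (helper27). -/

set_option autoImplicit false
set_option linter.unusedSectionVars false

namespace Cfsg.Lib.SD9

open Subgroup Cfsg.Lib.BG Cfsg.Lib.Transfer Equiv Cfsg.Lib.PSL2
open scoped Cfsg.Lib.Transfer MatrixGroups

/-- one class of involutions and rank two -/
structure LZ {L : Type*} [Group L] (z : L) : Prop where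
  cls : ∀ y, y * y = 1 → y = 1 ∨ ∃ w, cn w z = y
  r4 : ∀ q s, q * q = 1 → s * s = 1 → q * z = z * q → s * z = z * s → q * s = s * q →
    (q = 1 ∨ q = z) ∨ (s = 1 ∨ s = z) ∨ q * s = 1 ∨ q * s = z

/-- facts on `A₅` -/
structure LB {L : Type*} [Group L] (z h : L) : Prop extends LZ z where
  h3 : h ^ 3 = 1
  h1 : h ≠ 1
  zz : z * z = 1
  c1 : Commute z (cn h z)
  t : cn h (cn h z) = z * cn h z
  cen : ∀ y, y * z = z * y → y = 1 ∨ y = z ∨ y = cn h z ∨ y = z * cn h z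
  nr : ∀ s, cn s z * z = z * cn s z → cn s h ≠ h⁻¹
  two : ∀ y : L, (y * y) ^ 15 = 1

/-- facts on `L₂(7)` -/
structure LC {L : Type*} [Group L] (z h1 h2 : L) : Prop extends LZ z where
  a3 : h1 ^ 3 = 1
  a1 : h1 ≠ 1
  b3 : h2 ^ 3 = 1
  b1 : h2 ≠ 1
  t1 : (z * h1) ^ 3 = 1
  t2 : (z * h2) ^ 3 = 1
  i1 : cn (cn h2 z) h1 * h1 = 1
  i2 : cn (cn h1 z) h2 * h2 = 1
  sq : cn h1 z * cn h2 z * (cn h1 z * cn h2 z) * z = 1
  cen : ∀ y, y * z = z * y → ∃ w ∈ [1, cn h1 z, cn h2 z, cn h1 z * cn h2 z], y * w⁻¹ = 1 ∨ y * w⁻¹ * z = 1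

set_option synthInstance.maxSize 20000 in
set_option synthInstance.maxHeartbeats 400000 in
theorem lb5 : ∃ z h : alternatingGroup (Fin 5), LB z h := by
  refine ⟨⟨swap 0 1 * swap 2 3, Perm.mem_alternatingGroup.2 (by decide)⟩,
    ⟨swap 1 2 * swap 2 3, Perm.mem_alternatingGroup.2 (by decide)⟩, ⟨?_, ?_⟩, ?_, ?_, ?_, ?_, ?_, ?_, ?_, ?_⟩ <;>
    (try simp only [cn, Commute, SemiconjBy]) <;> decide +kernel

instance sdFact7 : Fact (Nat.Prime 7) := ⟨by norm_num⟩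

/-- an explicit matrix -/
def m7 (a b c d : ZMod 7) (h : a * d - b * c = 1 := by decide) : SL(2, ZMod 7) :=
  ⟨!![a, b; c, d], by rw [Matrix.det_fin_two_of, h]⟩

theorem all7 {p : SL(2, ZMod 7) → Prop} (h : ∀ a b c d e, p (m7 a b c d e)) (x : SL(2, ZMod 7)) : p x := by
  have := h (x 0 0) (x 0 1) (x 1 0) (x 1 1) (sl_det x)
  rwa [show m7 _ _ _ _ (sl_det x) = x from Subtype.ext (Matrix.eta_fin_two _).symm] at this

set_option synthInstance.maxSize 1000 in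
theorem lc7 : ∃ z h1 h2 : PSL(2, ZMod 7), LC z h1 h2 := by
  have c : ∀ y : SL(2, ZMod 7), y * m7 0 6 1 0 = m7 0 6 1 0 * y ∨ y * m7 0 6 1 0 = -(m7 0 6 1 0 * y) →
      y ∈ [1, -1, m7 0 6 1 0, m7 0 1 6 0, m7 2 3 3 5, m7 5 4 4 2, m7 5 3 3 2, m7 2 4 4 5, m7 5 5 2 5, m7 2 2 5 2,
        m7 3 5 5 4, m7 4 2 2 3, m7 3 2 2 4, m7 4 5 5 3, m7 5 2 5 5, m7 2 5 2 2] := all7 (by decide +kernel)
  refine ⟨toL (m7 0 6 1 0), toL (m7 2 0 1 4), toL (m7 2 0 6 4), ⟨fun y e => ?_, fun q s => ?_⟩, ?_, ?_, ?_, ?_, ?_, ?_, ?_, ?_,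
    ?_, fun y e => ?_⟩
  · refine or_iff_not_imp_left.2 fun f => ex_cn (isConj_psl_of_orderOf_two (orderOf_eq_prime ?_ ?_)
      (orderOf_eq_prime ((sq y).trans e) f))
    · rw [← map_pow, toL_eq_one_iff]; decide +kernel
    · rw [Ne, toL_eq_one_iff]; decide +kernel
  · obtain ⟨q, rfl⟩ := toL_surjective q
    obtain ⟨s, rfl⟩ := toL_surjective s
    simp only [← map_mul, toL_eq_one_iff, toL_eq_iff]
    intro i j k l
    replace k := c q k
    replace l := c s l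
    revert i j
    revert s
    revert q
    decide +kernel
  rotate_right
  · obtain ⟨y, rfl⟩ := toL_surjective y
    rw [← map_mul, ← map_mul, toL_eq_iff] at e
    simp only [cn, List.mem_cons, List.not_mem_nil, or_false, exists_eq_or_imp, exists_eq_left, inv_one, mul_one, ← map_inv,
      ← map_mul, toL_eq_one_iff]
    have e := c y e
    revert y
    decide +kernel
  all_goals
    simp only [cn, Ne, ← map_inv, ← map_mul, ← map_pow, toL_eq_one_iff]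
    decide +kernel

variable {G L : Type*} [Group G] [Group L] {b c g z x y p q s w : G} {K : Subgroup G} {ψ : G → L}

/-- a homomorphism defined on the centralizer of `b` -/
structure Ph (b : G) (ψ : G → L) (K : Subgroup G) : Prop where
  mul : ∀ {x y}, Commute x b → Commute y b → ψ (x * y) = ψ x * ψ y
  ker : ∀ {x}, x ∈ K ↔ Commute x b ∧ ψ x = 1

theorem Ph.of (φ : 𝐂[b] →* L) : ∃ ψ : G → L, Ph b ψ (φ.ker.map 𝐂[b].subtype) ∧ ∀ x : 𝐂[b], ψ x = φ x := by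
  classical
  have e : ∀ x : 𝐂[b], (if h : (x : G) ∈ 𝐂[b] then φ ⟨x, h⟩ else 1) = φ x := fun x => dif_pos x.2
  refine ⟨fun x => if h : x ∈ 𝐂[b] then φ ⟨x, h⟩ else 1, ⟨fun {x y} i j => ?_, fun {x} => ⟨?_, fun ⟨i, j⟩ => ?_⟩⟩, e⟩
  · exact (e (⟨x, mC.2 i⟩ * ⟨y, mC.2 j⟩)).trans ((map_mul _ _ _).trans
      (congrArg₂ _ (e ⟨x, mC.2 i⟩).symm (e ⟨y, mC.2 j⟩).symm))
  · rintro ⟨x, m, rfl⟩
    exact ⟨mC.1 x.2, (e x).trans m⟩
  · exact ⟨⟨x, mC.2 i⟩, (e ⟨x, mC.2 i⟩).symm.trans j, rfl⟩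

theorem ccn (i : Commute p b) (j : Commute x b) : Commute (cn p x) b := (i.mul_left j).mul_left i.inv_left

namespace Ph

variable (P : Ph b ψ K)
include P

theorem one : ψ 1 = 1 := (P.ker.1 (one_mem K)).2
theorem inv (i : Commute x b) : ψ x⁻¹ = (ψ x)⁻¹ := eq_inv_of_mul_eq_one_left (by rw [← P.mul i.inv_left i, inv_mul_cancel, P.one])
theorem cn' (i : Commute p b) (j : Commute x b) : ψ (cn p x) = cn (ψ p) (ψ x) := by
  rw [cn, P.mul (i.mul_left j) i.inv_left, P.mul i j, P.inv i, cn]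
theorem pow (i : Commute x b) (n : ℕ) : ψ (x ^ n) = ψ x ^ n := by
  induction n with
  | zero => rw [pow_zero, pow_zero, P.one]
  | succ n e => rw [pow_succ, pow_succ, P.mul (i.pow_left n) i, e]
theorem tw (l : L) : Ph b (fun x => cn l (ψ x)) K :=
  ⟨fun i j => by rw [P.mul i j, cn_mul], by simp only [P.ker, cn_eq_one, implies_true]⟩
theorem e2 (i : Commute x b) (e : E2 x) : E2 (ψ x) := e.imp fun _ e => by rw [← P.pow i, e, P.one]
theorem sq (i : Commute x b) (e : x * x = 1) : ψ x * ψ x = 1 := by rw [← P.mul i i, e, P.one]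
theorem com (i : Commute x b) (j : Commute y b) (e : Commute x y) : ψ x * ψ y = ψ y * ψ x := by
  rw [← P.mul i j, ← P.mul j i, e.eq]
theorem mem (i : Commute x b) (e : ψ x = 1) : x ∈ K := P.ker.2 ⟨i, e⟩
theorem nrm [Finite G] (i : Commute w b) : w ∈ 𝐍(K) := norm_of fun x m => by
  obtain ⟨j, e⟩ := P.ker.1 m
  exact P.mem (ccn i j) (by rw [P.cn' i j, e, cn_one])

/-- the preimage -/
def pre (V : Subgroup L) : Subgroup G where
  carrier := {x | Commute x b ∧ ψ x ∈ V}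
  one_mem' := ⟨Commute.one_left b, P.one.symm ▸ one_mem V⟩
  mul_mem' i j := ⟨i.1.mul_left j.1, (P.mul i.1 j.1).symm ▸ mul_mem i.2 j.2⟩
  inv_mem' i := ⟨i.1.inv_left, (P.inv i.1).symm ▸ inv_mem i.2⟩

end Ph

variable [Finite G]

theorem cases0 (bb : b * b = 1) (b1 : b ≠ 1) (g3 : g ^ 3 = 1) (g1 : g ≠ 1) (bg : Commute b g)
    (six : ∀ w, Commute w g → Commute w b → w ∈ zpowers g ∨ w * b ∈ zpowers g) :
    (∃ (ψ : G → Perm (Fin 3)) (K : Subgroup G), Ph b ψ K ∧ Group.IsNilpotent K ∧ b ∈ K ∧ g ∉ K) ∨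
    (∃ (ψ : G → alternatingGroup (Fin 5)) (K : Subgroup G), Ph b ψ K ∧ (∀ l, ∃ x, Commute x b ∧ ψ x = l) ∧ b ∈ K ∧
      ∀ y ∈ K, y * y ∈ zpowers b) ∨
    ∃ ψ : G → PSL(2, ZMod 7), Ph b ψ (zpowers b) ∧ ∀ l, ∃ x, Commute x b ∧ ψ x = l := by
  let Z := (zpowers b).subgroupOf 𝐂[b]
  have : Z.Normal := (normal_subgroupOf_iff_le_normalizer (zpowers_le.2 (self_mem_cent1 b))).2
    (cent_zpowers b ▸ cent_le_norm _)
  let π := QuotientGroup.mk' Z
  have hπ : ∀ x : 𝐂[b], π x = 1 ↔ (x : G) ∈ zpowers b := fun x => QuotientGroup.eq_one_iff x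
  have sπ : Function.Surjective π := QuotientGroup.mk'_surjective Z
  have gC := mC.2 bg.symm
  have oy : orderOf (π ⟨g, gC⟩) = 3 := orderOf_eq_prime
    (by rw [← map_pow, hπ, SubgroupClass.coe_pow, g3]; exact one_mem _) fun e => g1
      ((E2.of_mem (E2.of_sq bb).pg ((hπ _).1 e)).eq1 g3)
  have pt : π ⟨b, self_mem_cent1 b⟩ = 1 := (hπ _).2 (mem_zpowers b)
  have su : ∀ {L : Type} {φ : 𝐂[b] → L} {ψ : G → L}, (∀ x : 𝐂[b], ψ x = φ x) → Function.Surjective φ →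
      ∀ l, ∃ x, Commute x b ∧ ψ x = l := fun e f l => let ⟨x, i⟩ := f l; ⟨x, mC.1 x.2, (e x).trans i⟩
  have k := Cfsg.Agent.S3331.result (zpowers (π ⟨g, gC⟩)) ((Nat.card_zpowers _).trans oy) (le_antisymm (fun x hx => ?_)
    (abelian_cent inferInstance))
  · rcases k with ⟨N, hN, n1, n2, n3⟩ | ⟨N, hN, n1, n2, ⟨e⟩⟩ | ⟨⟨e⟩⟩
    · obtain ⟨f, hf⟩ : ∃ f : (𝐂[b] ⧸ Z) ⧸ N →* Perm (Fin 3), Function.Injective f := by
        rcases n3 with n3 | ⟨⟨e⟩⟩
        · have : Fact (Nat.Prime 3) := ⟨Nat.prime_three⟩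
          let e := mulEquivOfPrimeCardEq n3 (G' := alternatingGroup (Fin 3))
            (by rw [nat_card_alternatingGroup]; simp [Nat.factorial])
          exact ⟨(alternatingGroup (Fin 3)).subtype.comp e, Subtype.val_injective.comp e.injective⟩
        · exact ⟨e, e.injective⟩
      obtain ⟨ψ, P, e⟩ := Ph.of (f.comp ((QuotientGroup.mk' N).comp π))
      have m : ∀ x : 𝐂[b], (x : G) ∈ (f.comp ((QuotientGroup.mk' N).comp π)).ker.map 𝐂[b].subtype ↔ π x ∈ N :=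
        fun x => (mem_map_iff_mem Subtype.val_injective).trans ((map_eq_one_iff f hf).trans (QuotientGroup.eq_one_iff _))
      refine .inl ⟨ψ, _, P, ?_, (m ⟨b, self_mem_cent1 b⟩).2 (pt ▸ one_mem _), fun e => ?_⟩
      · refine Subgroup.isNilpotent_of_ker_le_center ((π.comp (inclusion (map_subtype_le _))).codRestrict N
          fun x => (m _).1 x.2) fun x hx => mem_center_iff.2 fun z => Subtype.ext ?_
        exact (mem_cent.1 ((cent_zpowers b).ge (map_subtype_le _ z.2)) _ ((hπ _).1 (congrArg Subtype.val hx))).symm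
      · have := orderOf_dvd_natCard _ ((m ⟨g, gC⟩).1 e)
        rw [oy] at this
        exact absurd (Nat.eq_one_of_dvd_coprimes n2 this dvd_rfl) (by norm_num)
    · obtain ⟨ψ, P, i⟩ := Ph.of (e.toMonoidHom.comp ((QuotientGroup.mk' N).comp π))
      have m : ∀ x : 𝐂[b], (x : G) ∈ (e.toMonoidHom.comp ((QuotientGroup.mk' N).comp π)).ker.map 𝐂[b].subtype ↔ π x ∈ N :=
        fun x => (mem_map_iff_mem Subtype.val_injective).trans
          ((map_eq_one_iff e e.injective).trans (QuotientGroup.eq_one_iff _))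
      exact .inr (.inl ⟨ψ, _, P, su i (e.surjective.comp ((QuotientGroup.mk'_surjective N).comp sπ)),
        (m ⟨b, self_mem_cent1 b⟩).2 (pt ▸ one_mem _), fun a ha => sq a ▸
          (hπ (⟨a, map_subtype_le _ ha⟩ ^ 2)).1 ((map_pow _ _ _).trans (n2 _ ((m ⟨a, _⟩).1 ha)))⟩)
    · obtain ⟨ψ, P, i⟩ := Ph.of (e.toMonoidHom.comp π)
      have m : ∀ x : 𝐂[b], (x : G) ∈ (e.toMonoidHom.comp π).ker.map 𝐂[b].subtype ↔ (x : G) ∈ zpowers b := fun x =>
        (mem_map_iff_mem Subtype.val_injective).trans ((map_eq_one_iff e e.injective).trans (hπ _))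
      rw [show (e.toMonoidHom.comp π).ker.map 𝐂[b].subtype = zpowers b from le_antisymm
        (fun a ha => (m ⟨a, map_subtype_le _ ha⟩).1 ha) (zpowers_le.2 ((m ⟨b, self_mem_cent1 b⟩).2 (mem_zpowers b)))] at P
      exact .inr (.inr ⟨ψ, P, su i (e.surjective.comp sπ)⟩)
  obtain ⟨w, rfl⟩ := sπ x
  have k : cn (w : G) g * g⁻¹ ∈ zpowers b := (hπ (w * (⟨g, gC⟩ : 𝐂[b]) * w⁻¹ * (⟨g, gC⟩ : 𝐂[b])⁻¹)).1 (by
    rw [map_mul, map_mul, map_mul, map_inv, map_inv, ← mem_cent.1 hx _ (mem_zpowers _)]; group)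
  have k1 : Commute (w : G) g := comm_of_cn (mul_inv_eq_one.1 (((zp2 bb).1 k).resolve_right fun e => b1 ?_))
  · rcases six w k1 (mC.1 w.2) with ⟨n, e⟩ | ⟨n, e⟩
    · exact ⟨n, (map_zpow π _ n).symm.trans (congrArg π (Subtype.ext e))⟩
    · refine ⟨n, (map_zpow π _ n).symm.trans ?_⟩
      rw [← mul_one (π w), ← pt, ← map_mul]; exact congrArg π (Subtype.ext e)
  refine (E2.of_sq bb).eq1 ?_
  have := bg.mul_pow 3
  rwa [g3, mul_one, ← mul_inv_eq_iff_eq_mul.1 e, cn_cube g3, eq_comm] at this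

end Cfsg.Lib.SD9
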